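import Cfsg.Agent.Lib.Sp.Basic

/-!
# `Sp₄` as `2 × 2` matrices over `2 × 2` matrices
-/

set_option autoImplicit false
set_option linter.unusedSectionVars false

open Matrix

namespace CfsgLib.SpFour

variable {F : Type*} [Field F]

/-- The coordinates. -/
def ix : (Fin 2 × Fin 2) ≃ (Fin 2 ⊕ Fin 2) where
  toFun x := if x.2 = 0 then Sum.inl x.1 else Sum.inr x.1
  invFun := Sum.elim (fun b => (b, 0)) (fun b => (b, 1))
  left_inv := by decide
  right_inv := by decide

/-- The identification of the two matrix rings. -/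
def phi : Matrix (Fin 2) (Fin 2) (Matrix (Fin 2) (Fin 2) F) ≃+*
    Matrix (Fin 2 ⊕ Fin 2) (Fin 2 ⊕ Fin 2) F :=
  (Matrix.compRingEquiv (Fin 2) (Fin 2) F).trans (Matrix.reindexRingEquiv F ix)

theorem phi_apply (M : Matrix (Fin 2) (Fin 2) (Matrix (Fin 2) (Fin 2) F))
    (x y : Fin 2 ⊕ Fin 2) : phi M x y = M (ix.symm x).1 (ix.symm y).1 (ix.symm x).2 (ix.symm y).2 :=
  rfl

/-- Transpose of blocks, adjugate of each block. -/
def sharp (M : Matrix (Fin 2) (Fin 2) (Matrix (Fin 2) (Fin 2) F)) :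
    Matrix (Fin 2) (Fin 2) (Matrix (Fin 2) (Fin 2) F) :=
  Matrix.of fun a b => (M b a).adjugate

theorem phi_sharp (M : Matrix (Fin 2) (Fin 2) (Matrix (Fin 2) (Fin 2) F)) :
    phi (sharp M) * Matrix.J (Fin 2) F = Matrix.J (Fin 2) F * (phi M)ᵀ := by
  ext x y
  simp only [Matrix.mul_apply, Matrix.transpose_apply, Fintype.sum_sum_type, Fin.sum_univ_two,
    phi_apply]
  rcases x with a | a <;> rcases y with b | b <;> fin_cases a <;> fin_cases b <;>
    simp [ix, sharp, Matrix.J, Matrix.fromBlocks, Matrix.adjugate_fin_two]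

theorem mem_of_sharp_mul {M : Matrix (Fin 2) (Fin 2) (Matrix (Fin 2) (Fin 2) F)}
    (h : sharp M * M = 1) : phi M ∈ Matrix.symplecticGroup (Fin 2) F := by
  rw [SymplecticGroup.mem_iff]
  have h' : M * sharp M = 1 := by
    have h1 : phi (sharp M) * phi M = 1 := by rw [← map_mul, h, map_one]
    exact phi.injective (by rw [map_mul, mul_eq_one_comm.1 h1, map_one])
  rw [mul_assoc, ← phi_sharp, ← mul_assoc, ← map_mul, h', map_one, one_mul]

/-- An element of `Sp₄` from blocks. -/
def mkSp (M : Matrix (Fin 2) (Fin 2) (Matrix (Fin 2) (Fin 2) F)) (h : sharp M * M = 1) :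
    Matrix.symplecticGroup (Fin 2) F := ⟨phi M, mem_of_sharp_mul h⟩

/-- The blocks of an element of `Sp₄`. -/
def bl : Matrix.symplecticGroup (Fin 2) F →* Matrix (Fin 2) (Fin 2) (Matrix (Fin 2) (Fin 2) F) :=
  phi.symm.toRingHom.toMonoidHom.comp (Matrix.symplecticGroup (Fin 2) F).subtype

theorem bl_mkSp (M : Matrix (Fin 2) (Fin 2) (Matrix (Fin 2) (Fin 2) F)) (h : sharp M * M = 1) :
    bl (mkSp M h) = M := phi.symm_apply_apply M

theorem bl_injective : Function.Injective (bl (F := F)) :=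
  fun _ _ h => Subtype.ext (phi.symm.injective h)

theorem eq_of_bl {X Y : Matrix.symplecticGroup (Fin 2) F} (h : bl X = bl Y) : X = Y :=
  bl_injective h

theorem sharp_bl (X : Matrix.symplecticGroup (Fin 2) F) : sharp (bl X) * bl X = 1 := by
  refine phi.injective ?_
  rw [map_mul, map_one, show phi (bl X) = X.1 from phi.apply_symm_apply _]
  have h : phi (sharp (bl X)) = Matrix.J (Fin 2) F * X.1ᵀ * -Matrix.J (Fin 2) F := by
    have h1 := phi_sharp (bl X)
    rw [show phi (bl X) = X.1 from phi.apply_symm_apply _] at h1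
    rw [← h1, mul_assoc, mul_neg, Matrix.J_squared, neg_neg, mul_one]
  rw [h]
  have h2 := (SymplecticGroup.mem_iff').1 X.2
  rw [mul_assoc, mul_assoc, neg_mul, mul_neg, ← mul_assoc X.1ᵀ, h2, mul_neg, Matrix.J_squared,
    neg_neg]

theorem pr_eq_pr_iff {X Y : Matrix.symplecticGroup (Fin 2) F} :
    (QuotientGroup.mk X : Cfsg.PSp 2 F) = QuotientGroup.mk Y ↔ bl Y = bl X ∨ bl Y = -bl X := by
  have h := CfsgLib.Sp.pr_eq_iff (F := F) (m := 2) (by norm_num) (A := X) (B := Y)
  rw [show CfsgLib.Sp.pr X = (QuotientGroup.mk X : Cfsg.PSp 2 F) from rfl,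
    show CfsgLib.Sp.pr Y = (QuotientGroup.mk Y : Cfsg.PSp 2 F) from rfl] at h
  rw [h]
  refine or_congr ⟨fun e => congrArg phi.symm e, fun e => phi.symm.injective e⟩
    ⟨fun e => ?_, fun e => phi.symm.injective ?_⟩
  · exact (congrArg phi.symm e).trans (map_neg phi.symm X.1)
  · exact e.trans (map_neg phi.symm X.1).symm

/-- Block diagonal matrices. -/
abbrev dia (a b : Matrix (Fin 2) (Fin 2) F) : Matrix (Fin 2) (Fin 2) (Matrix (Fin 2) (Fin 2) F) :=
  !![a, 0; 0, b]

/-- Block antidiagonal matrices. -/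
abbrev anti (a b : Matrix (Fin 2) (Fin 2) F) : Matrix (Fin 2) (Fin 2) (Matrix (Fin 2) (Fin 2) F) :=
  !![0, a; b, 0]

theorem dia_mul (a b c d : Matrix (Fin 2) (Fin 2) F) : dia a b * dia c d = dia (a * c) (b * d) := by
  simp [Matrix.mul_fin_two]

theorem dia_mul_anti (a b c d : Matrix (Fin 2) (Fin 2) F) :
    dia a b * anti c d = anti (a * c) (b * d) := by simp [Matrix.mul_fin_two]

theorem anti_mul_dia (a b c d : Matrix (Fin 2) (Fin 2) F) :
    anti a b * dia c d = anti (a * d) (b * c) := by simp [Matrix.mul_fin_two]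

theorem anti_mul (a b c d : Matrix (Fin 2) (Fin 2) F) : anti a b * anti c d = dia (a * d) (b * c) := by
  simp [Matrix.mul_fin_two]

theorem dia_one : dia (1 : Matrix (Fin 2) (Fin 2) F) 1 = 1 := Matrix.one_fin_two.symm

local notation "SL" => Matrix.SpecialLinearGroup (Fin 2) F

theorem sharp_dia (a b : SL) : sharp (dia a.1 b.1) * dia a.1 b.1 = 1 := by
  have h : sharp (dia a.1 b.1) = dia a.1.adjugate b.1.adjugate := by
    ext x y : 2
    fin_cases x <;> fin_cases y <;> simp [sharp]
  rw [h, dia_mul, Matrix.adjugate_mul, Matrix.adjugate_mul, a.2, b.2, one_smul, dia_one]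

theorem sharp_anti (a b : SL) : sharp (anti a.1 b.1) * anti a.1 b.1 = 1 := by
  have h : sharp (anti a.1 b.1) = anti b.1.adjugate a.1.adjugate := by
    ext x y : 2
    fin_cases x <;> fin_cases y <;> simp [sharp]
  rw [h, anti_mul, Matrix.adjugate_mul, Matrix.adjugate_mul, a.2, b.2, one_smul, dia_one]

/-- The two embedded `SL₂`. -/
def pair : SL × SL →* Matrix.symplecticGroup (Fin 2) F where
  toFun x := mkSp _ (sharp_dia x.1 x.2)
  map_one' := eq_of_bl (by rw [bl_mkSp, map_one]; exact dia_one)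
  map_mul' x y := eq_of_bl (by
    rw [bl_mkSp, map_mul, bl_mkSp, bl_mkSp, dia_mul]
    rfl)

theorem bl_pair (a b : SL) : bl (pair (a, b)) = dia a.1 b.1 := bl_mkSp _ (sharp_dia a b)

/-- The block swap. -/
def swp : Matrix.symplecticGroup (Fin 2) F := mkSp _ (sharp_anti (1 : SL) 1)

theorem bl_swp : bl (swp (F := F)) = anti 1 1 := bl_mkSp _ _

theorem swp_sq : swp (F := F) * swp = 1 :=
  eq_of_bl (by rw [map_mul, bl_swp, anti_mul, map_one, one_mul, dia_one])

theorem swp_inv : (swp (F := F))⁻¹ = swp := inv_eq_of_mul_eq_one_right swp_sq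

theorem swp_mul_pair (a b : SL) : swp * pair (a, b) = pair (b, a) * swp :=
  eq_of_bl (by rw [map_mul, map_mul, bl_swp, bl_pair, bl_pair, anti_mul_dia, dia_mul_anti]; simp)

theorem swp_conj_pair (a b : SL) : swp * pair (a, b) * (swp (F := F))⁻¹ = pair (b, a) := by
  rw [swp_mul_pair, mul_inv_cancel_right]

theorem pair_injective : Function.Injective (pair (F := F)) := by
  intro x y h
  have h' := congrArg bl h
  rw [← Prod.mk.eta (p := x), ← Prod.mk.eta (p := y), bl_pair, bl_pair] at h'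
  exact Prod.ext (Subtype.ext (congrFun (congrFun h' 0) 0)) (Subtype.ext (congrFun (congrFun h' 1) 1))

/-- An element commuting with the distinguished involution is diagonal. -/
theorem exists_pair_of_commute (h2 : (2 : F) ≠ 0) {X : Matrix.symplecticGroup (Fin 2) F}
    (h : bl X * dia 1 (-1) = dia 1 (-1) * bl X) : ∃ a b : SL, X = pair (a, b) := by
  have e01 := congrFun (congrFun h 0) 1
  have e10 := congrFun (congrFun h 1) 0
  simp [Matrix.mul_apply, Fin.sum_univ_two] at e01 e10
  have z : ∀ M : Matrix (Fin 2) (Fin 2) F, -M = M → M = 0 := fun M hM => by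
    ext i j
    have hij := congrFun (congrFun hM i) j
    rw [Matrix.neg_apply] at hij
    exact (mul_eq_zero.1 (show (2 : F) * M i j = 0 by linear_combination -hij)).resolve_left h2
  have h01 := z _ e01
  have h10 := z _ e10.symm
  have hs := sharp_bl X
  have hdet : ∀ a : Fin 2, (bl X a a).det = 1 := by
    intro a
    have h3 := congrFun (congrFun (congrFun (congrFun hs a) a) 0) 0
    fin_cases a <;>
    · simp [Matrix.mul_apply, Fin.sum_univ_two, sharp, h01, h10, Matrix.adjugate_fin_two, Matrix.vecMul, dotProduct] at h3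
      rw [Matrix.det_fin_two]
      simp
      linear_combination h3
  refine ⟨⟨_, hdet 0⟩, ⟨_, hdet 1⟩, eq_of_bl ?_⟩
  refine Eq.trans ?_ (bl_pair _ _).symm
  refine (Matrix.eta_fin_two (bl X)).trans ?_
  rw [h01, h10]

end CfsgLib.SpFour
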