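import Cfsg.Agent.Lib.Classical.SL2Sylow
import Cfsg.Agent.Lib.GLClass.TwoProducts
import Cfsg.Agent.Lib.Fusion.System.SimpleGroupAutomizer

/-!
# The Sylow 2-subgroups of `SL₂(q)`, `q` odd, and their normalizers
-/

set_option autoImplicit false
set_option linter.unusedSectionVars false

open Matrix

namespace CfsgLib.SpFour

variable {F : Type*} [Field F] [Fintype F]

local notation "SL" => Matrix.SpecialLinearGroup (Fin 2) F

theorem val_mul (a b : SL) : (a * b).1 = a.1 * b.1 := rfl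

theorem val_one : (1 : SL).1 = 1 := rfl

/-- A matrix commuting with two anticommuting square roots of `-1` is scalar. -/
theorem scalar_of_commute (h2 : (2 : F) ≠ 0) {I J A : Matrix (Fin 2) (Fin 2) F} (hI : I * I = -1)
    (hJ : J * J = -1) (hIJ : J * I = -(I * J)) (hAI : A * I = I * A) (hAJ : A * J = J * A) :
    ∃ c : F, A = c • 1 := by
  have htr : I 1 1 = -I 0 0 := by
    by_cases hne : I 0 1 = 0
    · by_cases hne' : I 1 0 = 0
      · by_contra hs
        have hII := congrFun (congrFun hI 0) 0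
        have hJJ := congrFun (congrFun hI 1) 1
        simp [Matrix.mul_apply, Fin.sum_univ_two, hne, hne'] at hII hJJ
        have hd : (I 1 1 - I 0 0) * (I 1 1 + I 0 0) = 0 := by linear_combination hJJ - hII
        rcases mul_eq_zero.1 hd with hd | hd
        · -- a scalar cannot anticommute
          have hIs : I = I 0 0 • (1 : Matrix (Fin 2) (Fin 2) F) := by
            ext r c
            fin_cases r <;> fin_cases c <;> simp [hne, hne', sub_eq_zero.1 hd]
          rw [hIs, Matrix.mul_smul, Matrix.smul_mul, mul_one, one_mul] at hIJ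
          have h0 : (2 * I 0 0) • J = 0 := by
            rw [two_mul, add_smul]; nth_rewrite 1 [hIJ]; rw [neg_add_cancel]
          rcases smul_eq_zero.1 h0 with h0 | h0
          · rw [(mul_eq_zero.1 h0).resolve_left h2] at hII; simp at hII
          · rw [h0, mul_zero] at hJ
            have := congrFun (congrFun hJ 0) 0
            simp at this
        · exact hs (eq_neg_of_add_eq_zero_left hd)
      · have h := congrFun (congrFun hI 1) 0
        simp [Matrix.mul_apply, Fin.sum_univ_two] at h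
        have : (I 0 0 + I 1 1) * I 1 0 = 0 := by linear_combination h
        exact eq_neg_of_add_eq_zero_right ((mul_eq_zero.1 this).resolve_right hne')
    · have h := congrFun (congrFun hI 0) 1
      simp [Matrix.mul_apply, Fin.sum_univ_two] at h
      have : (I 0 0 + I 1 1) * I 0 1 = 0 := by linear_combination h
      exact eq_neg_of_add_eq_zero_right ((mul_eq_zero.1 this).resolve_right hne)
  obtain ⟨α, β, hA⟩ : ∃ α β : F, A = α • 1 + β • I := by
    have e00 := congrFun (congrFun hAI 0) 0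
    have e01 := congrFun (congrFun hAI 0) 1
    have e10 := congrFun (congrFun hAI 1) 0
    simp [Matrix.mul_apply, Fin.sum_univ_two, htr] at e00 e01 e10
    by_cases hb : I 0 1 = 0
    · by_cases hc : I 1 0 = 0
      · have ha : I 0 0 ≠ 0 := fun h => by
          have hII := congrFun (congrFun hI 0) 0
          simp [Matrix.mul_apply, Fin.sum_univ_two, h, hb] at hII
        refine ⟨(A 0 0 + A 1 1) / 2, (A 0 0 - A 1 1) / (2 * I 0 0), ?_⟩
        have ha2 : (2 : F) * I 0 0 ≠ 0 := mul_ne_zero h2 ha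
        have h01 : A 0 1 = 0 := (mul_eq_zero.1
          (show (2 * I 0 0) * A 0 1 = 0 by rw [hb] at e01; linear_combination -e01)).resolve_left ha2
        have h10 : A 1 0 = 0 := (mul_eq_zero.1
          (show (2 * I 0 0) * A 1 0 = 0 by rw [hc] at e10; linear_combination e10)).resolve_left ha2
        ext r c
        fin_cases r <;> fin_cases c <;> simp [hb, hc, htr, h01, h10] <;> field_simp <;> ring
      · refine ⟨A 0 0 - A 1 0 / I 1 0 * I 0 0, A 1 0 / I 1 0, ?_⟩
        ext r c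
        fin_cases r <;> fin_cases c <;> simp [htr] <;> field_simp <;> grind
    · refine ⟨A 0 0 - A 0 1 / I 0 1 * I 0 0, A 0 1 / I 0 1, ?_⟩
      ext r c
      fin_cases r <;> fin_cases c <;> simp [htr] <;> field_simp <;> grind
  refine ⟨α, ?_⟩
  rw [hA, Matrix.add_mul, Matrix.mul_add, Matrix.smul_mul, Matrix.mul_smul, Matrix.smul_mul,
    Matrix.mul_smul, one_mul, mul_one, hIJ, smul_neg, add_right_inj] at hAJ
  have h0 : (2 * β) • (I * J) = 0 := by
    rw [two_mul, add_smul]; nth_rewrite 1 [hAJ]; rw [neg_add_cancel]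
  have hne : I * J ≠ 0 := by
    intro h
    have h1 : I * I * (J * J) = 0 := by
      rw [mul_assoc, ← mul_assoc I J J, h, zero_mul, mul_zero]
    rw [hI, hJ, neg_mul_neg, one_mul] at h1
    exact one_ne_zero h1
  rcases smul_eq_zero.1 h0 with h | h
  · rw [hA, (mul_eq_zero.1 h).resolve_left h2, zero_smul, add_zero]
  · exact absurd h hne

theorem smul_one_eq_pm {A : SL} {c : F} (h : A.1 = c • (1 : Matrix (Fin 2) (Fin 2) F)) :
    A = 1 ∨ A = -1 := by
  have hd := A.2
  rw [h, Matrix.det_smul, Matrix.det_one, Fintype.card_fin, mul_one, pow_two] at hd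
  rcases mul_self_eq_one_iff.1 hd with hc | hc
  · exact Or.inl (Subtype.ext (by rw [h, hc, one_smul]; rfl))
  · exact Or.inr (Subtype.ext (by rw [h, hc, neg_one_smul]; rfl))

variable (h2 : (2 : F) ≠ 0)
include h2

theorem pm_of_commute {i j a : SL} (hi : i * i = -1) (hj : j * j = -1) (hij : j * i = -(i * j))
    (hai : a * i = i * a) (haj : a * j = j * a) : a = 1 ∨ a = -1 := by
  obtain ⟨c, hc⟩ := scalar_of_commute h2 (I := i.1) (J := j.1) (A := a.1)
    (congrArg Subtype.val hi) (congrArg Subtype.val hj) (congrArg Subtype.val hij)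
    (congrArg Subtype.val hai) (congrArg Subtype.val haj)
  exact smul_one_eq_pm hc

theorem neg_one_ne_one : (-1 : SL) ≠ 1 := fun h => by
  have h' := congrFun (congrFun (congrArg Subtype.val h) 0) 0
  simp at h'
  exact h2 (by linear_combination -h')

theorem trace_eq_zero {a : SL} (h : a * a = -1) : a.1.trace = 0 := by
  have h' : a.1 * a.1 = -1 := congrArg Subtype.val h
  have hd := a.2
  rw [Matrix.det_fin_two] at hd
  have e00 := congrFun (congrFun h' 0) 0
  have e11 := congrFun (congrFun h' 1) 1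
  simp [Matrix.mul_apply, Fin.sum_univ_two] at e00 e11
  rw [Matrix.trace_fin_two]
  have h4 : (a.1 0 0 + a.1 1 1) * (a.1 0 0 + a.1 1 1) = 0 := by
    linear_combination e00 + e11 + 2 * hd
  exact mul_self_eq_zero.1 h4

/-- Square roots of `-1` are conjugate. -/
theorem exists_conj_four {a b : SL} (ha : a * a = -1) (hb : b * b = -1) :
    ∃ u : SL, u * a * u⁻¹ = b := by
  obtain ⟨u, hu⟩ := CfsgLib.GLClass.TwoProd.conj_of_trace ((trace_eq_zero h2 ha).trans (trace_eq_zero h2 hb).symm)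
    (by
      rw [trace_eq_zero h2 ha]
      intro h
      exact h2 (mul_self_eq_zero.1 (show (2 : F) * 2 = 0 by linear_combination -h)))
  exact ⟨u, hu.symm⟩

/-- The element permuting `i`, `j`, `i j` cyclically. -/
theorem exists_rot {i j : SL} (hi : i * i = -1) (hj : j * j = -1) (hij : j * i = -(i * j)) :
    ∃ h : SL, h.1 = (2 : F)⁻¹ • (1 + i.1 + j.1 + i.1 * j.1) ∧
      h * i * h⁻¹ = j ∧ h * j * h⁻¹ = i * j := by
  have hI : i.1 * i.1 = -1 := congrArg Subtype.val hi
  have hJ : j.1 * j.1 = -1 := congrArg Subtype.val hj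
  have hIJ : j.1 * i.1 = -(i.1 * j.1) := congrArg Subtype.val hij
  have htI : i.1.trace = 0 := trace_eq_zero h2 hi
  have htJ : j.1.trace = 0 := trace_eq_zero h2 hj
  have htK : (i.1 * j.1).trace = 0 := by
    have h := congrArg Matrix.trace hIJ
    rw [Matrix.trace_mul_comm, Matrix.trace_neg] at h
    exact (mul_eq_zero.1 (show (2 : F) * (i.1 * j.1).trace = 0 by linear_combination h)).resolve_left h2
  set M := (2 : F)⁻¹ • (1 + i.1 + j.1 + i.1 * j.1) with hM
  have hdet : M.det = 1 := by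
    have ht : M.trace = 1 := by
      rw [hM, Matrix.trace_smul, Matrix.trace_add, Matrix.trace_add, Matrix.trace_add, htI, htJ, htK,
        Matrix.trace_one, Fintype.card_fin]
      simp [inv_mul_cancel₀ h2]
    have hsq : M * M = M - 1 := by
      have e1 : (1 + i.1 + j.1 + i.1 * j.1) * (1 + i.1 + j.1 + i.1 * j.1) =
          (2 : F) • (1 + i.1 + j.1 + i.1 * j.1) - (4 : F) • 1 := by
        have a1 : i.1 * (i.1 * j.1) = -j.1 := by rw [← mul_assoc, hI, neg_one_mul]
        have a2 : i.1 * j.1 * j.1 = -i.1 := by rw [mul_assoc, hJ, mul_neg_one]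
        have a3 : j.1 * (i.1 * j.1) = i.1 := by rw [← mul_assoc, hIJ, neg_mul, a2, neg_neg]
        have a4 : i.1 * j.1 * i.1 = j.1 := by rw [mul_assoc, hIJ, mul_neg, a1, neg_neg]
        have a5 : i.1 * j.1 * (i.1 * j.1) = -1 := by rw [mul_assoc, a3, hI]
        simp only [add_mul, mul_add, one_mul, mul_one, hI, hJ, hIJ, a1, a2, a3, a4, a5]
        rw [show (4 : F) = 2 + 2 by norm_num, add_smul, two_smul, two_smul]
        abel
      rw [hM, Matrix.smul_mul, Matrix.mul_smul, smul_smul, e1, smul_sub, smul_smul, smul_smul,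
        mul_assoc, inv_mul_cancel₀ h2, mul_one, show (2 : F)⁻¹ * (2⁻¹ : F) * 4 = 1 by
          field_simp; norm_num, one_smul]
    have e00 := congrFun (congrFun hsq 0) 0
    rw [Matrix.trace_fin_two] at ht
    simp [Matrix.mul_apply, Fin.sum_univ_two] at e00
    rw [Matrix.det_fin_two]
    linear_combination -e00 + M 0 0 * ht
  refine ⟨⟨M, hdet⟩, rfl, ?_, ?_⟩
  · refine mul_inv_eq_iff_eq_mul.2 (Subtype.ext ?_)
    show M * i.1 = j.1 * M
    rw [hM, Matrix.smul_mul, Matrix.mul_smul]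
    congr 1
    have a1 : i.1 * (i.1 * j.1) = -j.1 := by rw [← mul_assoc, hI, neg_one_mul]
    have a2 : i.1 * j.1 * j.1 = -i.1 := by rw [mul_assoc, hJ, mul_neg_one]
    have a3 : j.1 * (i.1 * j.1) = i.1 := by rw [← mul_assoc, hIJ, neg_mul, a2, neg_neg]
    have a4 : i.1 * j.1 * i.1 = j.1 := by rw [mul_assoc, hIJ, mul_neg, a1, neg_neg]
    simp only [add_mul, mul_add, one_mul, mul_one, hI, hJ, hIJ, a1, a2, a3, a4]
    abel
  · refine mul_inv_eq_iff_eq_mul.2 (Subtype.ext ?_)
    show M * j.1 = i.1 * j.1 * M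
    rw [hM, Matrix.smul_mul, Matrix.mul_smul]
    congr 1
    simp only [add_mul, mul_add, one_mul, mul_one, hI, hJ, hIJ, mul_assoc, mul_neg]
    rw [← mul_assoc j.1 i.1, hIJ, neg_mul, mul_assoc, hJ]
    simp only [mul_neg, mul_one, neg_neg]
    rw [← mul_assoc i.1 i.1, hI, neg_one_mul]
    abel

/-- Data of a Sylow 2-subgroup of `SL₂`. -/
theorem exists_quat_data (P : Sylow 2 SL) :
    (-1 : SL) ∈ (P : Subgroup SL) ∧
    (P : Subgroup SL) ≤ Subgroup.closure
      {x : SL | ∃ a ∈ (P : Subgroup SL), ∃ b ∈ (P : Subgroup SL), a * a = -1 ∧ b * b = -1 ∧ x = a * b} ∧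
    ∃ i ∈ (P : Subgroup SL), ∃ j ∈ (P : Subgroup SL), ∃ h : SL,
      i * i = -1 ∧ j * j = -1 ∧ j * i = -(i * j) ∧
      h.1 = (2 : F)⁻¹ • (1 + i.1 + j.1 + i.1 * j.1) ∧ h * i * h⁻¹ = j ∧ h * j * h⁻¹ = i * j ∧
      ∀ t ∈ Subgroup.normalizer ((P : Subgroup SL) : Set SL),
        ∃ x ∈ (P : Subgroup SL), ∃ e : ℕ, t = x * h ^ e ∧
          (e = 0 ∨ h ∈ Subgroup.normalizer ((P : Subgroup SL) : Set SL)) := by
  classical
  haveI : Fact (Nat.Prime 2) := ⟨Nat.prime_two⟩
  have hF : Odd (Fintype.card F) := by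
    by_contra hev
    rw [Nat.not_odd_iff_even, even_iff_two_dvd] at hev
    exact h2 (by
      obtain ⟨k, hp, hk⟩ := FiniteField.card F (ringChar F)
      rw [hk] at hev
      have he := (Nat.prime_dvd_prime_iff_eq Nat.prime_two hp).1 (Nat.prime_two.dvd_of_dvd_pow hev)
      have := CharP.cast_eq_zero F (ringChar F)
      rw [← he] at this
      exact_mod_cast this)
  obtain ⟨k, hk, ⟨f⟩⟩ := CfsgLib.Classical.sylow_two_quaternion hF P
  set x : SL := ((f.symm (QuaternionGroup.a 1) : (P : Subgroup SL)) : SL) with hx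
  set y : SL := ((f.symm (QuaternionGroup.xa 0) : (P : Subgroup SL)) : SL) with hy
  have hxP : x ∈ (P : Subgroup SL) := SetLike.coe_mem _
  have hyP : y ∈ (P : Subgroup SL) := SetLike.coe_mem _
  let g : QuaternionGroup (2 ^ k) →* SL := (P : Subgroup SL).subtype.comp f.symm.toMonoidHom
  have hginj : Function.Injective g := Subtype.val_injective.comp f.symm.injective
  have hxpow : ∀ n : ℕ, x ^ n = g (QuaternionGroup.a n) := fun n => by
    rw [← QuaternionGroup.a_one_pow n, map_pow]; rfl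
  have hordx : orderOf x = 2 ^ (k + 1) := by
    rw [show x = g (QuaternionGroup.a 1) from rfl, orderOf_injective g hginj,
      QuaternionGroup.orderOf_a_one, pow_succ']
  haveI : NeZero (2 ^ k) := ⟨(Nat.two_pow_pos k).ne'⟩
  have hsq : ∀ z : SL, z * z ≠ 1 → (z * z) * (z * z) = 1 → z * z = -1 := fun z h1 h4 =>
    Subtype.ext (CfsgLib.Classical.involution_eq_neg_one h2 h1 h4)
  have hcastlt : ((2 ^ k : ℕ) : ZMod (2 * 2 ^ k)) ≠ 0 := by
    rw [ne_eq, ZMod.natCast_eq_zero_iff]
    intro h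
    have := Nat.le_of_dvd (Nat.two_pow_pos k) h
    have := Nat.two_pow_pos k
    omega
  have hanz : g (QuaternionGroup.a (2 ^ k : ℕ)) = -1 := by
    refine Subtype.ext (CfsgLib.Classical.involution_eq_neg_one h2 (fun h => ?_) ?_)
    · rw [← map_one g] at h
      exact hcastlt (QuaternionGroup.a.inj (hginj h))
    · rw [← map_mul, QuaternionGroup.a_mul_a, ← Nat.cast_add,
        show 2 ^ k + 2 ^ k = 2 * 2 ^ k by ring, ZMod.natCast_self]
      exact map_one g
  have hxa : ∀ i, g (QuaternionGroup.xa i) * g (QuaternionGroup.xa i) = -1 := fun i => by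
    rw [← map_mul, QuaternionGroup.xa_mul_xa, add_sub_cancel_right, hanz]
  set M := 2 ^ (k - 1) with hMdef
  have hM2 : M + M = 2 ^ k := by
    obtain ⟨r, rfl⟩ : ∃ r, k = r + 1 := ⟨k - 1, by omega⟩
    simp [hMdef, pow_succ]; ring
  set i₀ : SL := g (QuaternionGroup.a (M : ℕ)) with hi₀
  have hi₀sq : i₀ * i₀ = -1 := by rw [hi₀, ← map_mul, QuaternionGroup.a_mul_a, ← Nat.cast_add, hM2, hanz]
  have hi₀P : i₀ ∈ (P : Subgroup SL) := SetLike.coe_mem _
  have hysq : y * y = -1 := hxa 0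
  have hnegP : (-1 : SL) ∈ (P : Subgroup SL) := hanz ▸ SetLike.coe_mem _
  have hji : y * i₀ = -(i₀ * y) := by
    have h1 : y * i₀ = g (QuaternionGroup.xa (M : ℕ)) := by
      rw [show y = g (QuaternionGroup.xa 0) from rfl, hi₀, ← map_mul, QuaternionGroup.xa_mul_a, zero_add]
    have h3 : i₀ * y = g (QuaternionGroup.xa (-(M : ℕ))) := by
      rw [show y = g (QuaternionGroup.xa 0) from rfl, hi₀, ← map_mul, QuaternionGroup.a_mul_xa, zero_sub]
    rw [← neg_one_mul (i₀ * y), h1, h3, ← hanz, ← map_mul, QuaternionGroup.a_mul_xa, sub_eq_add_neg]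
    congr 2
    have : ((2 ^ k : ℕ) : ZMod (2 * 2 ^ k)) = (M : ℕ) + (M : ℕ) := by rw [← Nat.cast_add, hM2]
    have h0 : ((2 * 2 ^ k : ℕ) : ZMod (2 * 2 ^ k)) = 0 := ZMod.natCast_self _
    rw [Nat.cast_mul, Nat.cast_two] at h0
    linear_combination h0 - this
  have hgf : ∀ (z : SL) (hz : z ∈ (P : Subgroup SL)), g (f ⟨z, hz⟩) = z := fun z hz =>
    congrArg Subtype.val (f.symm_apply_apply ⟨z, hz⟩)
  refine ⟨hnegP, ?_, i₀, hi₀P, y, hyP, ?_⟩
  · intro z hz
    have hz' : z = g (f ⟨z, hz⟩) := (hgf _ _).symm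
    have hprod : ∀ u v, g (QuaternionGroup.xa u) * g (QuaternionGroup.xa v) ∈ Subgroup.closure
        {w : SL | ∃ a ∈ (P : Subgroup SL), ∃ b ∈ (P : Subgroup SL), a * a = -1 ∧ b * b = -1 ∧ w = a * b} :=
      fun u v => Subgroup.subset_closure ⟨_, SetLike.coe_mem _, _, SetLike.coe_mem _, hxa u, hxa v, rfl⟩
    rcases hc : f ⟨z, hz⟩ with n | n
    · rw [hz', hc]
      have e : (QuaternionGroup.a n : QuaternionGroup (2 ^ k)) =
          QuaternionGroup.xa 0 * QuaternionGroup.xa (n - ((2 ^ k : ℕ) : ZMod (2 * 2 ^ k))) := by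
        rw [QuaternionGroup.xa_mul_xa]; congr 1; ring
      rw [e, map_mul]
      exact hprod _ _
    · rw [hz', hc]
      have e : (QuaternionGroup.xa n : QuaternionGroup (2 ^ k)) =
          QuaternionGroup.a (M : ℕ) * QuaternionGroup.xa (n + ((M : ℕ) : ZMod (2 * 2 ^ k))) := by
        rw [QuaternionGroup.a_mul_xa]; congr 1; ring
      rw [e, map_mul]
      exact Subgroup.subset_closure ⟨_, hi₀P, _, SetLike.coe_mem _, hi₀sq, hxa _, rfl⟩
  obtain ⟨h, hhval, hhi, hhj⟩ := exists_rot h2 hi₀sq hysq hji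
  refine ⟨h, hi₀sq, hysq, hji, hhval, hhi, hhj, fun t ht => ?_⟩
  let Q : Subgroup SL := (P : Subgroup SL)
  -- a 2-element normalizing the Sylow subgroup lies in it
  have hsmall : ∀ u ∈ Subgroup.normalizer (Q : Set SL), ∀ n : ℕ, (u ^ 2 ^ n = 1 ∨ u ^ 2 ^ n = -1) →
      u ∈ Q := by
    intro u hu n hn
    have hp : IsPGroup 2 (Subgroup.zpowers u) := by
      refine CfsgLib.Fusion.isPGroup_zpowers_of_pow (k := n + 1) ?_
      rw [pow_succ, pow_mul]
      rcases hn with e | e <;> rw [e, pow_two] <;> simp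
    have := P.is_maximal' (IsPGroup.to_sup_of_normal_right' hp P.2 (Subgroup.zpowers_le.2 hu))
      le_sup_right
    exact this.le (Subgroup.mem_sup_left (Subgroup.mem_zpowers u))
  by_cases hk1 : k = 1
  · subst hk1
    have hy4 : y ^ 4 = 1 := by
      rw [show (4 : ℕ) = 2 + 2 from rfl, pow_add, pow_two, hysq]; simp
    have hmemQ : ∀ z ∈ Q, z * z = -1 →
        z = i₀ ∨ z = -i₀ ∨ z = y ∨ z = -y ∨ z = i₀ * y ∨ z = -(i₀ * y) := by
      intro z hz hzz
      have hz' : z = g (f ⟨z, hz⟩) := (hgf _ _).symm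
      have hne1 : z ≠ 1 := fun e => neg_one_ne_one h2 (by rw [e, one_mul] at hzz; exact hzz.symm)
      have hnem : z ≠ -1 := fun e => neg_one_ne_one h2 (by rw [e] at hzz; simpa using hzz.symm)
      have hneg : ∀ w : QuaternionGroup (2 ^ 1),
          -g w = g (QuaternionGroup.a ((2 ^ 1 : ℕ) : ZMod (2 * 2 ^ 1)) * w) := fun w => by
        rw [map_mul, hanz, neg_one_mul]
      have hM1 : M = 1 := by simp [hMdef]
      have key : ∀ w : QuaternionGroup (2 ^ 1), w = 1 ∨ w = QuaternionGroup.a ((2 ^ 1 : ℕ) : ZMod (2 * 2 ^ 1)) ∨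
          w = QuaternionGroup.a ((1 : ℕ) : ZMod (2 * 2 ^ 1)) ∨
          w = QuaternionGroup.a ((2 ^ 1 : ℕ) : ZMod (2 * 2 ^ 1)) * QuaternionGroup.a ((1 : ℕ) : ZMod (2 * 2 ^ 1)) ∨
          w = QuaternionGroup.xa 0 ∨
          w = QuaternionGroup.a ((2 ^ 1 : ℕ) : ZMod (2 * 2 ^ 1)) * QuaternionGroup.xa 0 ∨
          w = QuaternionGroup.a ((1 : ℕ) : ZMod (2 * 2 ^ 1)) * QuaternionGroup.xa 0 ∨
          w = QuaternionGroup.a ((2 ^ 1 : ℕ) : ZMod (2 * 2 ^ 1)) *
            (QuaternionGroup.a ((1 : ℕ) : ZMod (2 * 2 ^ 1)) * QuaternionGroup.xa 0) := by decide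
      have hyg : y = g (QuaternionGroup.xa 0) := rfl
      rw [hi₀, hM1, hyg, hneg, hneg, ← map_mul, hneg, hz']
      rcases key (f ⟨z, hz⟩) with e | e | e | e | e | e | e | e
      · exact absurd (by rw [hz', e, map_one]) hne1
      · exact absurd (by rw [hz', e, hanz]) hnem
      all_goals rw [e]; tauto
    have hQn : ∀ z : SL, z * z = -1 → ∀ u : SL, (u * z * u⁻¹) * (u * z * u⁻¹) = -1 := fun z hz u => by
      rw [show u * z * u⁻¹ * (u * z * u⁻¹) = u * (z * z) * u⁻¹ by group, hz]; simp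
    have hgenQ : ∀ u : SL, u * i₀ * u⁻¹ ∈ Q → u * y * u⁻¹ ∈ Q →
        u ∈ Subgroup.normalizer (Q : Set SL) := by
      intro u h1 h3
      refine CfsgLib.Fusion.conj_le_of_subset fun z hz => ?_
      have hcl : Q ≤ Subgroup.closure {i₀, y} := by
        intro w hw
        have hw' : w = g (f ⟨w, hw⟩) := (hgf _ _).symm
        have key : ∀ v : QuaternionGroup (2 ^ 1), ∃ a : Fin 4, ∃ b : Fin 2,
            v = QuaternionGroup.a ((1 : ℕ) : ZMod (2 * 2 ^ 1)) ^ (a : ℕ) * QuaternionGroup.xa 0 ^ (b : ℕ) := by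
          decide
        obtain ⟨a, b, hab⟩ := key (f ⟨w, hw⟩)
        rw [hw', hab, map_mul, map_pow, map_pow]
        refine mul_mem (pow_mem ((Subgroup.subset_closure : ({i₀, y} : Set SL) ⊆ _) (Or.inl ?_)) _)
          (pow_mem ((Subgroup.subset_closure : ({i₀, y} : Set SL) ⊆ _) (Or.inr rfl)) _)
        rw [hi₀]; simp [hMdef]
      have : z ∈ (Q.comap (MulAut.conj u).toMonoidHom) :=
        ((Subgroup.closure_le _).2 (fun w hw => by
          rcases hw with rfl | rfl
          · exact h1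
          · exact h3)) (hcl hz)
      exact this
    have hN : h ∈ Subgroup.normalizer (Q : Set SL) :=
      hgenQ h (hhi ▸ hyP) (hhj ▸ mul_mem hi₀P hyP)
    have hNm : ∀ a, a ∈ Q → a ∈ Subgroup.normalizer (Q : Set SL) := fun a ha => Subgroup.le_normalizer ha
    have hneg_comm : ∀ a : SL, (-1 : SL) * a = -a := fun a => neg_one_mul a
    -- fixing `i₀` up to sign
    have hfix : ∀ u ∈ Subgroup.normalizer (Q : Set SL),
        (u * i₀ * u⁻¹ = i₀ ∨ u * i₀ * u⁻¹ = -i₀) → u ∈ Q := by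
      intro u hu hui
      obtain ⟨v, hv, hvi, hvQ⟩ : ∃ v, v ∈ Subgroup.normalizer (Q : Set SL) ∧ v * i₀ * v⁻¹ = i₀ ∧
          (v ∈ Q → u ∈ Q) := by
        rcases hui with e | e
        · exact ⟨u, hu, e, id⟩
        · refine ⟨y * u, mul_mem (hNm y hyP) hu, ?_, fun hm => (mul_mem_cancel_left hyP).1 hm⟩
          rw [show y * u * i₀ * (y * u)⁻¹ = y * (u * i₀ * u⁻¹) * y⁻¹ by group, e, mul_neg, neg_mul,
            show y * i₀ = -(i₀ * y) from hji, neg_mul, neg_neg, mul_inv_cancel_right]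
      refine hvQ ?_
      have hcomm : v * i₀ = i₀ * v := mul_inv_eq_iff_eq_mul.1 hvi
      -- `v` acts on `y`
      have hcases := hmemQ _ ((Subgroup.mem_normalizer_iff.1 hv y).1 hyP) (hQn y hysq v)
      have hpow4 : ∀ n : ℕ, v ^ n * i₀ = i₀ * v ^ n := fun n =>
        ((show Commute v i₀ from hcomm).pow_left n).eq
      suffices hex : ∃ n : ℕ, (v ^ 2 ^ n) * y * (v ^ 2 ^ n)⁻¹ = y by
        obtain ⟨n, hn⟩ := hex
        refine hsmall v hv n (pm_of_commute h2 hi₀sq hysq hji (hpow4 _) (mul_inv_eq_iff_eq_mul.1 hn))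
      have hii : v * (i₀ * y) * v⁻¹ = i₀ * (v * y * v⁻¹) := by
        rw [← mul_assoc v, hcomm]; group
      have hneg' : ∀ a : SL, v * (-a) * v⁻¹ = -(v * a * v⁻¹) := fun a => by simp
      have hstep2 : v ^ 2 ^ 1 * y * (v ^ 2 ^ 1)⁻¹ = v * (v * y * v⁻¹) * v⁻¹ := by
        rw [pow_one, pow_two]; group
      have hstep4 : v ^ 2 ^ 2 * y * (v ^ 2 ^ 2)⁻¹ = v * (v * (v * (v * y * v⁻¹) * v⁻¹) * v⁻¹) * v⁻¹ := by
        rw [show 2 ^ 2 = 4 from rfl, pow_succ, pow_succ, pow_succ, pow_one]; group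
      rcases hcases with e | e | e | e | e | e
      · exfalso
        have h5 : v * y * v⁻¹ = v * i₀ * v⁻¹ := by rw [e, hvi]
        exact absurd (mul_left_cancel (mul_right_cancel h5)) fun h6 => neg_one_ne_one h2 (by
          rw [h6] at hji; rw [← hi₀sq]; conv_lhs => rw [hji]
          simp [hi₀sq])
      · exfalso
        have h5 : v * y * v⁻¹ = v * (-i₀) * v⁻¹ := by rw [e, hneg', hvi]
        have h6 := mul_left_cancel (mul_right_cancel h5)
        rw [h6] at hji
        simp [hi₀sq] at hji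
        exact neg_one_ne_one h2 hji.symm
      · exact ⟨0, by rw [pow_zero, pow_one]; exact e⟩
      · exact ⟨1, by rw [hstep2, e, hneg', e, neg_neg]⟩
      · exact ⟨2, by
          rw [hstep4, e, hii, e, ← mul_assoc i₀ i₀, hi₀sq, neg_one_mul, hneg', e, hneg', hii, e,
            ← mul_assoc i₀ i₀, hi₀sq, neg_one_mul, neg_neg]⟩
      · exact ⟨2, by
          rw [hstep4, e]
          have h1 : v * (i₀ * y) * v⁻¹ = y := by
            rw [hii, e, mul_neg, ← mul_assoc i₀ i₀, hi₀sq, neg_one_mul, neg_neg]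
          rw [hneg', h1, hneg', e, neg_neg, h1]⟩
    have hti := hmemQ _ ((Subgroup.mem_normalizer_iff.1 ht i₀).1 hi₀P) (hQn i₀ hi₀sq t)
    obtain ⟨e, he⟩ : ∃ e : ℕ, t * i₀ * t⁻¹ = h ^ e * i₀ * (h ^ e)⁻¹ ∨
        t * i₀ * t⁻¹ = -(h ^ e * i₀ * (h ^ e)⁻¹) := by
      rcases hti with e | e | e | e | e | e
      · exact ⟨0, Or.inl (by simpa using e)⟩
      · exact ⟨0, Or.inr (by simpa using e)⟩
      · exact ⟨1, Or.inl (by rw [pow_one, hhi]; exact e)⟩
      · exact ⟨1, Or.inr (by rw [pow_one, hhi]; exact e)⟩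
      · refine ⟨2, Or.inl ?_⟩
        rw [pow_two, show h * h * i₀ * (h * h)⁻¹ = h * (h * i₀ * h⁻¹) * h⁻¹ by group, hhi, hhj]
        exact e
      · refine ⟨2, Or.inr ?_⟩
        rw [pow_two, show h * h * i₀ * (h * h)⁻¹ = h * (h * i₀ * h⁻¹) * h⁻¹ by group, hhi, hhj]
        exact e
    have hu := hfix ((h ^ e)⁻¹ * t) (mul_mem (inv_mem (pow_mem hN e)) ht) (by
      rw [show (h ^ e)⁻¹ * t * i₀ * ((h ^ e)⁻¹ * t)⁻¹ = (h ^ e)⁻¹ * (t * i₀ * t⁻¹) * h ^ e by group]
      rcases he with he | he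
      · left; rw [he]; group
      · right
        rw [he, mul_neg, neg_mul]
        congr 1
        group)
    refine ⟨h ^ e * ((h ^ e)⁻¹ * t) * (h ^ e)⁻¹,
      (Subgroup.mem_normalizer_iff.1 (pow_mem hN e) _).1 hu, e, by group, Or.inr hN⟩
  · -- the normalizer is `Q`
    refine ⟨t, ?_, 0, by simp, Or.inl rfl⟩
    have h8 : 8 ≤ 2 ^ (k + 1) := le_trans (le_of_eq (by norm_num)) (Nat.pow_le_pow_right (by norm_num)
      (show 3 ≤ k + 1 by omega))
    have hcases : ∀ z ∈ Q, (∃ n : ℕ, z = x ^ n) ∨ z * z = -1 := by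
      intro z hz
      have hz' : z = g (f ⟨z, hz⟩) := (hgf _ _).symm
      rcases hc : f ⟨z, hz⟩ with n | n
      · exact Or.inl ⟨n.val, by rw [hxpow, hz', hc, ZMod.natCast_zmod_val]⟩
      · exact Or.inr (by rw [hz', hc]; exact hxa n)
    obtain ⟨m, hm⟩ : ∃ m : ℕ, t * x * t⁻¹ = x ^ m := by
      refine (hcases _ ((Subgroup.mem_normalizer_iff.1 ht x).1 hxP)).resolve_right fun h4 => ?_
      have hord4 : (t * x * t⁻¹) ^ 4 = 1 := by
        rw [show (4 : ℕ) = 2 + 2 from rfl, pow_add, pow_two, h4]; simp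
      rw [conj_pow, mul_inv_eq_iff_eq_mul, one_mul, mul_eq_left] at hord4
      have := Nat.le_of_dvd (by norm_num) (orderOf_dvd_of_pow_eq_one hord4)
      omega
    have hiter : ∀ r : ℕ, t ^ r * x * (t ^ r)⁻¹ = x ^ (m ^ r) := by
      intro r
      induction r with
      | zero => simp
      | succ r ih =>
        rw [pow_succ' t, show t * t ^ r * x * (t * t ^ r)⁻¹ = t * (t ^ r * x * (t ^ r)⁻¹) * t⁻¹ by group,
          ih, ← conj_pow, hm, ← pow_mul, pow_succ' m]
    have hmodd : Nat.Coprime m (2 ^ (k + 1)) := by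
      rw [Nat.coprime_pow_right_iff (by omega), Nat.coprime_two_right, ← Nat.not_even_iff_odd]
      rintro ⟨r, rfl⟩
      have h5 : orderOf (t * x * t⁻¹) = orderOf (x ^ (r + r)) := by rw [hm]
      rw [show t * x * t⁻¹ = MulAut.conj t x from rfl, MulEquiv.orderOf_eq, orderOf_pow, hordx,
        show r + r = r * 2 by ring] at h5
      have hg2 : 2 ∣ (2 ^ (k + 1)).gcd (r * 2) := Nat.dvd_gcd (dvd_pow_self 2 (by omega)) (dvd_mul_left 2 r)
      have h6 := Nat.div_le_div_left (Nat.le_of_dvd (Nat.gcd_pos_of_pos_left _ (Nat.two_pow_pos _)) hg2)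
        (by norm_num : 0 < 2) (a := 2 ^ (k + 1))
      have := Nat.two_pow_pos k
      have e : 2 ^ (k + 1) / 2 = 2 ^ k := by rw [pow_succ, Nat.mul_div_cancel _ (by norm_num)]
      rw [e, ← h5, pow_succ] at h6
      omega
    have hcx : t ^ 2 ^ k * x = x * t ^ 2 ^ k := by
      have h5 := hiter (2 ^ k)
      have h6 : m ^ 2 ^ k ≡ 1 [MOD 2 ^ (k + 1)] := by
        have := Nat.ModEq.pow_totient hmodd
        rwa [Nat.totient_prime_pow Nat.prime_two (by omega), Nat.add_sub_cancel, Nat.mul_one] at this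
      rw [← pow_mod_orderOf x, hordx, h6, Nat.one_mod_eq_one.2 (by omega), pow_one] at h5
      exact mul_inv_eq_iff_eq_mul.1 h5
    set u := t ^ 2 ^ k
    have hu : u ∈ Subgroup.normalizer (Q : Set SL) := pow_mem ht _
    have hhalf : u * i₀ = i₀ * u := by
      rw [hi₀, ← hxpow]
      exact ((show Commute u x from hcx).pow_right M).eq
    obtain ⟨l, hl⟩ : ∃ l : ℕ, u * y * u⁻¹ = x ^ l * y := by
      have hm' : u * y * u⁻¹ * y⁻¹ ∈ Q := mul_mem ((Subgroup.mem_normalizer_iff.1 hu y).1 hyP) (inv_mem hyP)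
      rcases hc : f ⟨_, hm'⟩ with n | n
      · refine ⟨n.val, ?_⟩
        rw [hxpow, ZMod.natCast_zmod_val, ← hc,
          hgf _ hm',
          inv_mul_cancel_right]
      · exfalso
        -- `u y u⁻¹` would lie in the cyclic subgroup
        have he : u * y * u⁻¹ = g (QuaternionGroup.xa n * QuaternionGroup.xa 0) := by
          rw [map_mul, ← hc,
            hgf _ hm',
            show g (QuaternionGroup.xa 0) = y from rfl, inv_mul_cancel_right]
        rw [QuaternionGroup.xa_mul_xa, ← ZMod.natCast_zmod_val ((_ : ZMod (2 * 2 ^ k)) + 0 - n), ← hxpow] at he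
        have h5 : u⁻¹ * (u * y * u⁻¹) * u = y := by group
        have h7 : ∀ r : ℕ, u⁻¹ * x ^ r * u = x ^ r := fun r => by
          rw [mul_assoc, ← ((show Commute u x from hcx).pow_right r).eq, inv_mul_cancel_left]
        rw [he, h7] at h5
        rw [← h5] at hji
        rw [hi₀, ← hxpow, ← pow_add, ← pow_add, add_comm M] at hji
        exact neg_one_ne_one h2 (mul_right_cancel ((neg_one_mul _).trans (hji.symm.trans (one_mul _).symm)))
    have hiter2 : ∀ r : ℕ, u ^ r * y * (u ^ r)⁻¹ = x ^ (l * r) * y := by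
      intro r
      induction r with
      | zero => simp
      | succ r ih =>
        rw [pow_succ' u, show u * u ^ r * y * (u * u ^ r)⁻¹ = u * (u ^ r * y * (u ^ r)⁻¹) * u⁻¹ by group,
          ih, ← mul_assoc u, ((show Commute u x from hcx).pow_right _).eq, mul_assoc (x ^ _) u,
          mul_assoc (x ^ _) (u * y), hl, ← mul_assoc, ← pow_add, Nat.mul_succ]
    have hfin := hiter2 (2 ^ (k + 1))
    rw [pow_mul' x l, ← hordx, pow_orderOf_eq_one, one_pow, one_mul, mul_inv_eq_iff_eq_mul] at hfin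
    refine hsmall t ht (k + (k + 1)) ?_
    rw [pow_add, pow_mul, ← hordx]
    exact pm_of_commute h2 hi₀sq hysq hji ((show Commute u i₀ from hhalf).pow_left _).eq hfin

end CfsgLib.SpFour
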