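import Cfsg.Agent.Lib.Fusion.PSpFour.Algebra
import Cfsg.Agent.Lib.Fusion.PSpFour.Quat
import Cfsg.Agent.Lib.Fusion.System.SimpleGroupCriterion
import Cfsg.Agent.Lib.Fusion.System.SimpleGroupAutomizer
import Cfsg.Agent.Lib.Classical.SpOrder
import Cfsg.Agent.Lib.Coprime.Solvable

/-!
# The 2-fusion system of `PSp₄(q)`, `q` odd
-/

set_option autoImplicit false
set_option linter.unusedSectionVars false
set_option linter.style.haveILetI false

open Matrix
open scoped Pointwise

namespace CfsgLib.SpFour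

open CfsgLib.Fusion (autSub mem_autSub autSub_of_mem conj_mem_autSub autSub_of_centric)

variable {F : Type*} [Field F] [Fintype F]

local notation "SL" => Matrix.SpecialLinearGroup (Fin 2) F
local notation "Sp4" => Matrix.symplecticGroup (Fin 2) F
local notation "G4" => Cfsg.PSp 2 F
local notation "M22" => Matrix (Fin 2) (Fin 2) (Matrix (Fin 2) (Fin 2) F)

/-- The projection. -/
def proj : Sp4 →* G4 := QuotientGroup.mk' _

theorem proj_surjective : Function.Surjective (proj (F := F)) := QuotientGroup.mk'_surjective _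

/-- Minus the identity. -/
def negI : Sp4 := pair (-1, -1)

theorem bl_negI : bl (negI (F := F)) = -1 := by
  rw [negI, bl_pair]
  ext x y : 2
  fin_cases x <;> fin_cases y <;> simp

theorem proj_eq_iff {X Y : Sp4} : proj X = proj Y ↔ Y = X ∨ Y = X * negI := by
  show (QuotientGroup.mk X : G4) = QuotientGroup.mk Y ↔ _
  rw [pr_eq_pr_iff]
  refine or_congr ⟨fun h => eq_of_bl h, fun h => by rw [h]⟩
    ⟨fun h => eq_of_bl (by rw [h, map_mul, bl_negI, mul_neg, mul_one]),
      fun h => by rw [h, map_mul, bl_negI, mul_neg, mul_one]⟩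

theorem proj_eq_iff' {X Y : Sp4} : proj X = proj Y ↔ bl Y = bl X ∨ bl Y = -bl X := pr_eq_pr_iff

theorem proj_negI : proj (negI (F := F)) = 1 := by
  rw [← map_one proj, proj_eq_iff']
  right
  rw [map_one, bl_negI, neg_neg]

theorem bl_pair_swp (a b : SL) : bl (pair (a, b) * swp) = anti a.1 b.1 := by
  rw [map_mul, bl_pair, bl_swp, dia_mul_anti, mul_one, mul_one]

/-- The monomial 2-subgroup over `Q`. -/
def wreath (Q : Subgroup SL) : Subgroup Sp4 where
  carrier := {X | ∃ a ∈ Q, ∃ b ∈ Q, X = pair (a, b) ∨ X = pair (a, b) * swp}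
  one_mem' := ⟨1, Q.one_mem, 1, Q.one_mem, Or.inl (map_one pair).symm⟩
  mul_mem' := by
    rintro _ _ ⟨a, ha, b, hb, rfl | rfl⟩ ⟨c, hc, d, hd, rfl | rfl⟩
    · exact ⟨a * c, Q.mul_mem ha hc, b * d, Q.mul_mem hb hd, Or.inl (map_mul pair (a, b) (c, d)).symm⟩
    · exact ⟨a * c, Q.mul_mem ha hc, b * d, Q.mul_mem hb hd,
        Or.inr (by rw [← mul_assoc, ← map_mul]; rfl)⟩
    · exact ⟨a * d, Q.mul_mem ha hd, b * c, Q.mul_mem hb hc,
        Or.inr (by rw [mul_assoc, swp_mul_pair, ← mul_assoc, ← map_mul]; rfl)⟩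
    · exact ⟨a * d, Q.mul_mem ha hd, b * c, Q.mul_mem hb hc, Or.inl (by
        rw [mul_assoc, ← mul_assoc swp, swp_mul_pair, mul_assoc (pair (d, c)), swp_sq, mul_one,
          ← map_mul]; rfl)⟩
  inv_mem' := by
    rintro _ ⟨a, ha, b, hb, rfl | rfl⟩
    · exact ⟨a⁻¹, Q.inv_mem ha, b⁻¹, Q.inv_mem hb, Or.inl (map_inv pair (a, b)).symm⟩
    · exact ⟨b⁻¹, Q.inv_mem hb, a⁻¹, Q.inv_mem ha,
        Or.inr (by rw [_root_.mul_inv_rev, ← map_inv, swp_inv, Prod.inv_mk, swp_mul_pair])⟩

theorem pair_mem_wreath {Q : Subgroup SL} {a b : SL} (ha : a ∈ Q) (hb : b ∈ Q) :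
    pair (a, b) ∈ wreath Q := ⟨a, ha, b, hb, Or.inl rfl⟩

theorem swp_mem_wreath (Q : Subgroup SL) : swp ∈ wreath Q :=
  ⟨1, Q.one_mem, 1, Q.one_mem, Or.inr (by rw [Prod.mk_one_one, map_one, one_mul])⟩

theorem dia_inj {a b c d : Matrix (Fin 2) (Fin 2) F} (h : dia a b = dia c d) : a = c ∧ b = d :=
  ⟨congrFun (congrFun h 0) 0, congrFun (congrFun h 1) 1⟩

theorem neg_dia (a b : Matrix (Fin 2) (Fin 2) F) : -dia a b = dia (-a) (-b) := by
  ext x y : 2
  fin_cases x <;> fin_cases y <;> simp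

theorem neg_anti (a b : Matrix (Fin 2) (Fin 2) F) : -anti a b = anti (-a) (-b) := by
  ext x y : 2
  fin_cases x <;> fin_cases y <;> simp

theorem anti_inj {a b c d : Matrix (Fin 2) (Fin 2) F} (h : anti a b = anti c d) : a = c ∧ b = d :=
  ⟨congrFun (congrFun h 0) 1, congrFun (congrFun h 1) 0⟩

theorem dia_ne_anti {a b c d : Matrix (Fin 2) (Fin 2) F} (ha : a ≠ 0) : dia a b ≠ anti c d :=
  fun h => ha (congrFun (congrFun h 0) 0)

theorem val_ne_zero (a : SL) : a.1 ≠ 0 := fun h => by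
  have hd := a.2
  rw [h, Matrix.det_fin_two] at hd
  simp at hd

theorem card_wreath (Q : Subgroup SL) : Nat.card (wreath Q) = 2 * (Nat.card Q * Nat.card Q) := by
  let f : Bool × Q × Q → wreath Q := fun x => ⟨if x.1 then pair ((x.2.1 : SL), (x.2.2 : SL)) * swp
      else pair ((x.2.1 : SL), (x.2.2 : SL)), by
    rcases x with ⟨c, a, b⟩
    cases c
    · exact ⟨_, a.2, _, b.2, Or.inl rfl⟩
    · exact ⟨_, a.2, _, b.2, Or.inr rfl⟩⟩
  have hf : Function.Bijective f := by
    refine ⟨fun x y h => ?_, fun ⟨X, a, ha, b, hb, hX⟩ => ?_⟩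
    · have h' : bl (f x).1 = bl (f y).1 := by rw [h]
      rcases x with ⟨c, a, b⟩
      rcases y with ⟨c', a', b'⟩
      cases c <;> cases c' <;>
        simp only [f, Bool.false_eq_true, if_false, if_true, bl_pair, bl_pair_swp] at h'
      · obtain ⟨e1, e2⟩ := dia_inj h'
        exact Prod.ext rfl (Prod.ext (Subtype.ext (Subtype.ext e1)) (Subtype.ext (Subtype.ext e2)))
      · exact absurd h' (dia_ne_anti (val_ne_zero _))
      · exact absurd h'.symm (dia_ne_anti (val_ne_zero _))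
      · obtain ⟨e1, e2⟩ := anti_inj h'
        exact Prod.ext rfl (Prod.ext (Subtype.ext (Subtype.ext e1)) (Subtype.ext (Subtype.ext e2)))
    · rcases hX with h | h
      · exact ⟨(false, ⟨a, ha⟩, ⟨b, hb⟩), Subtype.ext h.symm⟩
      · exact ⟨(true, ⟨a, ha⟩, ⟨b, hb⟩), Subtype.ext h.symm⟩
  rw [← Nat.card_eq_of_bijective f hf, Nat.card_prod, Nat.card_prod, Nat.card_eq_fintype_card (α := Bool),
    Fintype.card_bool]

/-- The monomial subgroup over a Sylow subgroup has odd index. -/
theorem odd_index_wreath (hodd : Fintype.card F % 2 = 1) (P : Sylow 2 SL) :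
    ¬ 2 ∣ (wreath (P : Subgroup SL)).index := by
  haveI : Fact (Nat.Prime 2) := ⟨Nat.prime_two⟩
  intro hd
  have h1 := (wreath (P : Subgroup SL)).card_mul_index
  rw [card_wreath, CfsgLib.Classical.card_symplectic 2] at h1
  have h2 := (P : Subgroup SL).card_mul_index
  rw [CfsgLib.Classical.card_sl2] at h2
  set q := Fintype.card F with hq
  have hq2 : 2 ≤ q := Fintype.one_lt_card
  simp only [Finset.prod_range_succ, Finset.prod_range_zero, one_mul, zero_add, mul_one,
    show (2 : ℕ) * (1 + 1) = 4 from rfl, show (2 : ℕ) ^ 2 = 4 from rfl] at h1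
  have e : q ^ 4 * ((q ^ 2 - 1) * (q ^ 4 - 1)) =
      (q * ((q - 1) * (q + 1))) * (q * ((q - 1) * (q + 1))) * (q ^ 2 * (q ^ 2 + 1)) := by
    obtain ⟨r, hr'⟩ : ∃ r, q = r + 1 := ⟨q - 1, by omega⟩
    rw [hr']
    have a1 : (r + 1) ^ 2 - 1 = r * (r + 2) := by
      rw [show (r + 1) ^ 2 = r * (r + 2) + 1 by ring, Nat.add_sub_cancel]
    have a2 : (r + 1) ^ 4 - 1 = r * (r + 2) * ((r + 1) ^ 2 + 1) := by
      rw [show (r + 1) ^ 4 = r * (r + 2) * ((r + 1) ^ 2 + 1) + 1 by ring, Nat.add_sub_cancel]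
    rw [a1, a2, Nat.add_sub_cancel]
    ring
  rw [e, ← h2] at h1
  set c := Nat.card (P : Subgroup SL)
  set r := (P : Subgroup SL).index with hr
  have h3 : 2 * (wreath (P : Subgroup SL)).index = r * r * (q ^ 2 * (q ^ 2 + 1)) := by
    refine Nat.eq_of_mul_eq_mul_left (Nat.mul_pos Nat.card_pos Nat.card_pos : 0 < c * c) ?_
    linear_combination h1
  obtain ⟨s, hs⟩ : ∃ s, q ^ 2 + 1 = 2 * s ∧ Odd s := by
    obtain ⟨k, hk⟩ := Nat.odd_iff.2 hodd
    exact ⟨2 * k * k + 2 * k + 1, by rw [hk]; ring, ⟨k * k + k, by ring⟩⟩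
  rw [hs.1] at h3
  have h4 : (wreath (P : Subgroup SL)).index = r * r * (q ^ 2 * s) :=
    Nat.eq_of_mul_eq_mul_left two_pos (h3.trans (by ring))
  have hro : Odd r := Nat.odd_iff.2 (Nat.two_dvd_ne_zero.1 P.not_dvd_index)
  rw [h4, ← even_iff_two_dvd] at hd
  exact Nat.not_even_iff_odd.2 ((hro.mul hro).mul ((Nat.odd_iff.2 hodd).pow.mul hs.2)) hd

/-- Quaternion relations used in computations. -/
structure Rel (I J K : Matrix (Fin 2) (Fin 2) F) : Prop where
  ii : I * I = -1
  jj : J * J = -1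
  kk : K * K = -1
  ij : I * J = K
  ji : J * I = -K
  jk : J * K = I
  kj : K * J = -I
  ki : K * I = J
  ik : I * K = -J

theorem rel_of {I J : Matrix (Fin 2) (Fin 2) F} (hI : I * I = -1) (hJ : J * J = -1)
    (hIJ : J * I = -(I * J)) : Rel I J (I * J) := by
  have a1 : I * (I * J) = -J := by rw [← mul_assoc, hI, neg_one_mul]
  have a2 : I * J * J = -I := by rw [mul_assoc, hJ, mul_neg_one]
  have a3 : J * (I * J) = I := by rw [← mul_assoc, hIJ, neg_mul, a2, neg_neg]
  have a4 : I * J * I = J := by rw [mul_assoc, hIJ, mul_neg, a1, neg_neg]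
  exact ⟨hI, hJ, by rw [mul_assoc, a3, hI], rfl, hIJ, a3, a2, a4, a1⟩

/-- Elements `!![1 + J, I - K; I - K, 1 + J]`. -/
abbrev gTwo (I J K : Matrix (Fin 2) (Fin 2) F) : M22 := !![1 + J, I - K; I - K, 1 + J]

/-- The other one. -/
abbrev gTwoInv (I J K : Matrix (Fin 2) (Fin 2) F) : M22 := !![1 - J, K - I; K - I, 1 - J]

namespace Rel

variable {I J K : Matrix (Fin 2) (Fin 2) F} (R : Rel I J K)
include R

/-- `g` moves the four generators. -/
theorem g_moves : gTwo I J K * dia I I = dia (-K) (-K) * gTwo I J K ∧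
    gTwo I J K * dia J J = anti I I * gTwo I J K ∧
    gTwo I J K * dia 1 (-1) = anti K (-K) * gTwo I J K ∧
    gTwo I J K * anti 1 1 = anti 1 1 * gTwo I J K := by
  refine ⟨?_, ?_, ?_, ?_⟩ <;> ext x y : 2 <;> fin_cases x <;> fin_cases y <;>
    simp [Matrix.mul_apply, Fin.sum_univ_two, add_mul, mul_add, sub_mul, mul_sub, R.ii, R.jj, R.kk,
      R.ij, R.ji, R.jk, R.kj, R.ki, R.ik] <;> abel

theorem g_inv_mul : gTwoInv I J K * gTwo I J K = (4 : F) • (1 : M22) := by
  rw [show (4 : F) = 1 + 1 + 1 + 1 by norm_num, add_smul, add_smul, add_smul, one_smul]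
  ext x y : 2
  fin_cases x <;> fin_cases y <;>
    simp [Matrix.mul_apply, Fin.sum_univ_two, add_mul, mul_add, sub_mul, mul_sub, R.ii, R.jj, R.kk,
      R.ij, R.ji, R.jk, R.kj, R.ki, R.ik] <;> abel

/-- The product of two conjugates. -/
theorem rot_eq : gTwo I J K * dia I 1 * gTwoInv I J K * (gTwoInv I J K * dia K 1 * gTwo I J K) =
    (8 : F) • (dia (1 + I + J + K) (1 + I + J + K) * anti (-K) K) := by
  have e1 : gTwo I J K * dia I 1 * gTwoInv I J K =
      (!![1 - K, 1 - K; K - 1, 1 - K] : M22) + !![1 - K, 1 - K; K - 1, 1 - K] := by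
    ext x y : 2
    fin_cases x <;> fin_cases y <;>
      simp [Matrix.mul_apply, Fin.sum_univ_two, add_mul, mul_add, sub_mul, mul_sub, R.ii, R.jj, R.kk,
        R.ij, R.ji, R.jk, R.kj, R.ki, R.ik] <;> abel
  have e2 : gTwoInv I J K * dia K 1 * gTwo I J K =
      (!![1 - I, 1 - I; I - 1, 1 - I] : M22) + !![1 - I, 1 - I; I - 1, 1 - I] := by
    ext x y : 2
    fin_cases x <;> fin_cases y <;>
      simp [Matrix.mul_apply, Fin.sum_univ_two, add_mul, mul_add, sub_mul, mul_sub, R.ii, R.jj, R.kk,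
        R.ij, R.ji, R.jk, R.kj, R.ki, R.ik] <;> abel
  have e3 : (!![1 - K, 1 - K; K - 1, 1 - K] : M22) * !![1 - I, 1 - I; I - 1, 1 - I] =
      dia (1 + I + J + K) (1 + I + J + K) * anti (-K) K +
        dia (1 + I + J + K) (1 + I + J + K) * anti (-K) K := by
    ext x y : 2
    fin_cases x <;> fin_cases y <;>
      simp [Matrix.mul_apply, Fin.sum_univ_two, add_mul, mul_add, sub_mul, mul_sub, R.ii, R.jj, R.kk,
        R.ij, R.ji, R.jk, R.kj, R.ki, R.ik] <;> abel
  rw [e1, e2, ← two_smul F, ← two_smul F (!![1 - I, 1 - I; I - 1, 1 - I] : M22), Matrix.smul_mul,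
    Matrix.mul_smul, e3, ← two_smul F (dia (1 + I + J + K) (1 + I + J + K) * anti (-K) K), smul_smul,
    smul_smul]
  norm_num

theorem adjugate_eq (hI : I.trace = 0) (hJ : J.trace = 0) (hK : K.trace = 0) :
    sharp (gTwo I J K) = gTwoInv I J K ∧ sharp (gTwoInv I J K) = gTwo I J K := by
  rw [Matrix.trace_fin_two] at hI hJ hK
  have ei := eq_neg_of_add_eq_zero_right hI
  have ej := eq_neg_of_add_eq_zero_right hJ
  have ek := eq_neg_of_add_eq_zero_right hK
  refine ⟨?_, ?_⟩ <;> ext x y a b <;> fin_cases x <;> fin_cases y <;> fin_cases a <;> fin_cases b <;>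
    simp [sharp, Matrix.adjugate_fin_two, ei, ej, ek] <;> ring

end Rel

theorem sharp_smul (c : F) (M : M22) : sharp (c • M) = c • sharp M := by
  ext x y : 2
  simp [sharp, Matrix.adjugate_smul]

/-- The mixing element. -/
theorem exists_mix (h2 : (2 : F) ≠ 0) {I J : SL} (hI : I * I = -1) (hJ : J * J = -1)
    (hIJ : J * I = -(I * J)) :
    ∃ g : Sp4, bl g = (2 : F)⁻¹ • gTwo I.1 J.1 (I.1 * J.1) ∧
      bl g⁻¹ = (2 : F)⁻¹ • gTwoInv I.1 J.1 (I.1 * J.1) := by
  have R := rel_of (I := I.1) (J := J.1) (congrArg Subtype.val hI) (congrArg Subtype.val hJ)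
    (congrArg Subtype.val hIJ)
  have hK : (I * J) * (I * J) = -1 := Subtype.ext R.kk
  obtain ⟨hs, -⟩ := R.adjugate_eq (trace_eq_zero h2 hI) (trace_eq_zero h2 hJ) (trace_eq_zero h2 hK)
  have key : sharp ((2 : F)⁻¹ • gTwo I.1 J.1 (I.1 * J.1)) * ((2 : F)⁻¹ • gTwo I.1 J.1 (I.1 * J.1)) = 1 := by
    rw [sharp_smul, hs, Matrix.smul_mul, Matrix.mul_smul, R.g_inv_mul, smul_smul, smul_smul,
      show (2 : F)⁻¹ * 2⁻¹ * 4 = 1 by field_simp; norm_num, one_smul]
  refine ⟨mkSp _ key, bl_mkSp _ _, ?_⟩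
  have h := congrArg bl (inv_mul_cancel (mkSp _ key))
  rw [map_mul, map_one, bl_mkSp] at h
  have h' : ((2 : F)⁻¹ • gTwo I.1 J.1 (I.1 * J.1)) * bl (mkSp _ key)⁻¹ = 1 := mul_eq_one_comm.1 h
  rw [sharp_smul, hs] at key
  exact (left_inv_eq_right_inv key h').symm

/-- An element exchanging the eigenspaces of the two basic involutions. -/
theorem exists_conj_swap (h2 : (2 : F) ≠ 0) :
    ∃ m : Sp4, m * pair (1, -1) * m⁻¹ = swp := by
  set p : Matrix (Fin 2) (Fin 2) F := !![(2 : F)⁻¹, 0; 0, 1] with hp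
  have hpp : p.adjugate * p = (2 : F)⁻¹ • 1 := by
    rw [Matrix.adjugate_mul]
    congr 1
    simp [hp, Matrix.det_fin_two]
  have hpp2 : p.adjugate * p + p.adjugate * p = 1 := by
    rw [hpp, ← add_smul, ← two_mul, mul_inv_cancel₀ h2, one_smul]
  have key : sharp !![p, p; p, -p] * !![p, p; p, -p] = 1 := by
    have hn : (-p).adjugate = -p.adjugate := by
      rw [hp]; ext a b; fin_cases a <;> fin_cases b <;> simp [Matrix.adjugate_fin_two]
    have hs : sharp !![p, p; p, -p] = !![p.adjugate, p.adjugate; p.adjugate, -p.adjugate] := by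
      ext x y : 2
      fin_cases x <;> fin_cases y <;> simp [sharp, hn]
    rw [hs, Matrix.mul_fin_two, Matrix.one_fin_two]
    simp only [neg_mul, mul_neg, neg_neg, hpp2, add_neg_cancel]
  refine ⟨mkSp _ key, ?_⟩
  rw [mul_inv_eq_iff_eq_mul]
  apply eq_of_bl
  rw [map_mul, map_mul, bl_mkSp, bl_pair, bl_swp]
  ext x y : 2
  fin_cases x <;> fin_cases y <;> simp [Matrix.mul_apply, Fin.sum_univ_two]

/-- The 2-fusion system of `PSp₄(q)`, `q` odd, is simple. -/
theorem isSimple (hodd : Fintype.card F % 2 = 1) (S₁ : Sylow 2 G4) :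
    (Cfsg.groupFusionSystem (S₁ : Subgroup G4)).IsSimple 2 := by
  classical
  haveI : Fact (Nat.Prime 2) := ⟨Nat.prime_two⟩
  haveI : Finite G4 := inferInstance
  have h2 : (2 : F) ≠ 0 := CfsgLib.Classical.two_ne_zero_of_odd_card (Nat.odd_iff.2 hodd)
  obtain ⟨P⟩ : Nonempty (Sylow 2 SL) := inferInstance
  obtain ⟨hneg, hgen, i, hiP, j, hjP, h, hii, hjj, hji, hhval, hhi, hhj, hnorm⟩ :=
    exists_quat_data h2 P
  have hkP : i * j ∈ (P : Subgroup SL) := mul_mem hiP hjP
  have R := rel_of (I := i.1) (J := j.1) (congrArg Subtype.val hii) (congrArg Subtype.val hjj)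
    (congrArg Subtype.val hji)
  have hkk : (i * j) * (i * j) = -1 := Subtype.ext R.kk
  have hpm : ∀ {a : SL}, a.1 * i.1 = i.1 * a.1 → a.1 * j.1 = j.1 * a.1 → a = 1 ∨ a = -1 :=
    fun e1 e2 => pm_of_commute h2 hii hjj hji (Subtype.ext e1) (Subtype.ext e2)
  have hneq : ∀ {a : SL}, a * a = -1 → a.1 ≠ -a.1 := fun {a} _ e => val_ne_zero a (by
    have h' : (2 : F) • a.1 = 0 := by rw [two_smul]; nth_rewrite 1 [e]; rw [neg_add_cancel]
    exact (smul_eq_zero.1 h').resolve_left h2)
  -- the Sylow subgroup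
  have hnW : negI ∈ wreath (P : Subgroup SL) := pair_mem_wreath hneg hneg
  have hWp : IsPGroup 2 (wreath (P : Subgroup SL)) := by
    obtain ⟨n, hn⟩ := IsPGroup.iff_card.1 P.2
    refine IsPGroup.of_card (n := n + n + 1) ?_
    rw [card_wreath, hn, pow_succ, pow_add]
    ring
  have hidx : ¬ 2 ∣ ((wreath (P : Subgroup SL)).map proj).index := fun hd =>
    odd_index_wreath hodd P (hd.trans (Subgroup.index_map_dvd _ proj_surjective))
  let S₀ : Sylow 2 G4 := (hWp.map proj).toSylow hidx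
  obtain ⟨a₁, ha₁⟩ := MulAction.exists_smul_eq G4 S₀ S₁
  set pj : Sp4 →* G4 := (MulAut.conj a₁).toMonoidHom.comp proj with hpj
  have pj_eq_iff : ∀ {X Y : Sp4}, pj X = pj Y ↔ Y = X ∨ Y = X * negI := fun {X Y} =>
    ((MulAut.conj a₁).injective.eq_iff).trans proj_eq_iff
  have pj_eq_iff' : ∀ {X Y : Sp4}, pj X = pj Y ↔ bl Y = bl X ∨ bl Y = -bl X := fun {X Y} =>
    ((MulAut.conj a₁).injective.eq_iff).trans proj_eq_iff'
  have pj_negI : pj negI = 1 := by
    show MulAut.conj a₁ (proj negI) = 1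
    rw [proj_negI, map_one]
  have pj_surjective : Function.Surjective pj :=
    (MulAut.conj a₁).surjective.comp proj_surjective
  let S : Sylow 2 G4 := S₁
  have hS : ∀ X, pj X ∈ (S : Subgroup G4) ↔ X ∈ wreath (P : Subgroup SL) := by
    intro X
    show MulAut.conj a₁ (proj X) ∈ (S₁ : Subgroup G4) ↔ _
    rw [← ha₁, Sylow.coe_subgroup_smul, ← MulAut.smul_def, Subgroup.smul_mem_pointwise_smul_iff]
    refine ⟨fun hX => ?_, fun hX => Subgroup.mem_map_of_mem _ hX⟩
    obtain ⟨Y, hY, he⟩ := hX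
    rcases proj_eq_iff.1 he with e | e
    · exact e ▸ hY
    · exact e ▸ mul_mem hY hnW
  have hSpair : ∀ {a b : SL}, a ∈ (P : Subgroup SL) → b ∈ (P : Subgroup SL) →
      pj (pair (a, b)) ∈ (S : Subgroup G4) := fun ha hb => (hS _).2 (pair_mem_wreath ha hb)
  have hSswp : pj swp ∈ (S : Subgroup G4) := (hS _).2 (swp_mem_wreath _)
  set z : Sp4 := pair (1, -1) with hz
  -- the centre
  have hcent : ∀ X ∈ wreath (P : Subgroup SL), (∀ y ∈ (S : Subgroup G4), pj X * y = y * pj X) →
      pj X = 1 ∨ pj X = pj z := by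
    rintro X ⟨a, ha, b, hb, rfl | rfl⟩ hc
    · have hab : ∀ u ∈ ({i, j} : Set SL), a.1 * u.1 = u.1 * a.1 ∧ b.1 * u.1 = u.1 * b.1 := by
        intro u hu
        have huP : u ∈ (P : Subgroup SL) := by rcases hu with rfl | rfl <;> assumption
        have h1 := hc _ (hSpair huP (P : Subgroup SL).one_mem)
        have h1' := hc _ (hSpair (P : Subgroup SL).one_mem huP)
        rw [← map_mul pj, ← map_mul pj, pj_eq_iff', map_mul, map_mul, bl_pair, bl_pair, dia_mul, dia_mul,
          val_one, mul_one, one_mul, neg_dia] at h1 h1'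
        refine ⟨?_, ?_⟩
        · rcases h1 with h1 | h1
          · exact (dia_inj h1).1.symm
          · refine absurd (dia_inj h1).2 fun e => val_ne_zero b ?_
            have h' : (2 : F) • b.1 = 0 := by rw [two_smul]; nth_rewrite 1 [e]; rw [neg_add_cancel]
            exact (smul_eq_zero.1 h').resolve_left h2
        · rcases h1' with h1' | h1'
          · exact (dia_inj h1').2.symm
          · refine absurd (dia_inj h1').1 fun e => val_ne_zero a ?_
            have h' : (2 : F) • a.1 = 0 := by rw [two_smul]; nth_rewrite 1 [e]; rw [neg_add_cancel]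
            exact (smul_eq_zero.1 h').resolve_left h2
      rcases hpm (hab i (Or.inl rfl)).1 (hab j (Or.inr rfl)).1 with rfl | rfl <;>
        rcases hpm (hab i (Or.inl rfl)).2 (hab j (Or.inr rfl)).2 with rfl | rfl
      · exact Or.inl (by rw [Prod.mk_one_one, map_one, map_one])
      · exact Or.inr rfl
      · exact Or.inr (pj_eq_iff'.2 (Or.inr (by rw [hz, bl_pair, bl_pair, neg_dia]; simp)))
      · exact Or.inl (by rw [show pair ((-1 : SL), (-1 : SL)) = negI from rfl, pj_negI])
    · exfalso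
      have h1 := hc _ (hSpair hiP (P : Subgroup SL).one_mem)
      rw [← map_mul pj, ← map_mul pj, pj_eq_iff'] at h1
      simp only [map_mul, bl_pair, bl_swp, dia_mul_anti, anti_mul_dia, val_one, mul_one, one_mul,
        neg_anti] at h1
      have hone : i.1 * a.1 = a.1 ∨ i.1 * a.1 = -a.1 := by
        rcases h1 with h1 | h1
        · exact Or.inl (anti_inj h1).1
        · exact Or.inr (anti_inj h1).1
      rcases hone with e | e
      · have e' : i * a = a := Subtype.ext e
        rw [mul_eq_right.1 e', one_mul] at hii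
        exact neg_one_ne_one h2 hii.symm
      · have e' : i * a = (-1) * a := by rw [neg_one_mul]; exact Subtype.ext e
        rw [mul_right_cancel e', neg_mul_neg, one_mul] at hii
        exact neg_one_ne_one h2 hii.symm
  have hzne : pj z ≠ 1 := by
    rw [← map_one pj, ne_eq, pj_eq_iff', not_or, hz, bl_pair, map_one, ← dia_one, neg_dia]
    refine ⟨fun e => ?_, fun e => ?_⟩
    · exact neg_one_ne_one h2 (Subtype.ext (dia_inj e).2).symm
    · have e' := (dia_inj e).1
      simp only [val_one, neg_neg, Matrix.SpecialLinearGroup.coe_one] at e'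
      have h' := congrFun (congrFun e' 0) 0
      simp at h'
      exact h2 (by linear_combination h')
  have hzW : z ∈ wreath (P : Subgroup SL) := pair_mem_wreath (P : Subgroup SL).one_mem hneg
  have hzc : ∀ Y ∈ wreath (P : Subgroup SL), pj z * pj Y = pj Y * pj z := by
    rintro Y ⟨a, ha, b, hb, rfl | rfl⟩
    · rw [← map_mul pj, ← map_mul pj, hz, ← map_mul pair, ← map_mul pair]
      simp
    · rw [← map_mul pj, ← map_mul pj, pj_eq_iff']
      simp only [hz, map_mul, bl_pair, bl_swp, dia_mul_anti, anti_mul_dia, val_one, mul_one, one_mul,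
        neg_anti]
      right
      simp
  -- no proper closed subgroup
  have hclosed : ∀ T : Subgroup G4, T ≤ (S : Subgroup G4) → T ≠ ⊥ →
      (∀ x ∈ T, ∀ g : G4, g * x * g⁻¹ ∈ (S : Subgroup G4) → g * x * g⁻¹ ∈ T) →
      (S : Subgroup G4) ≤ T := by
    intro T hTS hT hcl
    have hmove : ∀ (X m Y : Sp4), pj X ∈ T → Y ∈ wreath (P : Subgroup SL) → m * X * m⁻¹ = Y →
        pj Y ∈ T := fun X m Y hX hY he => by
      have e1 : pj m * pj X * (pj m)⁻¹ = pj Y := by rw [← map_inv, ← map_mul, ← map_mul, he]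
      exact e1 ▸ hcl _ hX (pj m) (e1 ▸ (hS _).2 hY)
    have hzT : pj z ∈ T := by
      haveI : Group.IsNilpotent (S : Subgroup G4) := S.2.isNilpotent
      haveI : (T.subgroupOf (S : Subgroup G4)).Normal := ⟨fun x hx y => by
        rw [Subgroup.mem_subgroupOf] at hx ⊢
        exact hcl _ hx _ (SetLike.coe_mem (y * x * y⁻¹))⟩
      have hne := CfsgLib.Coprime.nilpotent_inf_center_ne_bot (T.subgroupOf (S : Subgroup G4)) (by
        rw [ne_eq, Subgroup.subgroupOf_eq_bot, disjoint_iff]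
        rwa [inf_eq_left.2 hTS])
      obtain ⟨⟨⟨x, hxS⟩, hxT, hxc⟩, hx1⟩ := Subgroup.ne_bot_iff_exists_ne_one.1 hne
      obtain ⟨X, rfl⟩ := pj_surjective x
      rcases hcent X ((hS X).1 hxS) (fun y hy => (congrArg Subtype.val
        (Subgroup.mem_center_iff.1 hxc ⟨y, hy⟩)).symm) with e | e
      · exact absurd (Subtype.ext (Subtype.ext e)) hx1
      · exact e ▸ hxT
    obtain ⟨m, hm⟩ := exists_conj_swap (F := F) h2
    have hswT : pj swp ∈ T := hmove z m swp hzT (swp_mem_wreath _) hm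
    have hainv : ∀ a ∈ (P : Subgroup SL), pj (pair (a, a⁻¹)) ∈ T := by
      intro a ha
      have h1 : pj (pair (a, a⁻¹) * swp) ∈ T := by
        refine hmove swp (pair (a, 1)) _ hswT ⟨a, ha, a⁻¹, inv_mem ha, Or.inr rfl⟩ ?_
        rw [← map_inv, mul_assoc, swp_mul_pair, ← mul_assoc, ← map_mul, Prod.inv_mk, inv_one]
        simp
      have := mul_mem h1 hswT
      rwa [← map_mul, mul_assoc, swp_sq, mul_one] at this
    have hfour : ∀ a ∈ (P : Subgroup SL), ∀ b ∈ (P : Subgroup SL), a * a = -1 → b * b = -1 →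
        pj (pair (a, b)) ∈ T := by
      intro a ha b hb haa hbb
      have hinv : a⁻¹ * a⁻¹ = -1 := by
        rw [← _root_.mul_inv_rev, haa, inv_eq_iff_mul_eq_one, neg_mul_neg, one_mul]
      obtain ⟨u, hu⟩ := exists_conj_four h2 hinv hbb
      refine hmove _ (pair (1, u)) _ (hainv a ha) (pair_mem_wreath ha hb) ?_
      rw [← map_inv, ← map_mul, ← map_mul]
      simp [hu]
    have hleft : ∀ a ∈ (P : Subgroup SL), pj (pair (a, 1)) ∈ T := by
      have hle : (P : Subgroup SL) ≤ (T.comap (pj.comp (pair.comp (MonoidHom.inl SL SL)))) := by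
        refine hgen.trans ((Subgroup.closure_le _).2 ?_)
        rintro x ⟨a, ha, b, hb, haa, hbb, rfl⟩
        have hinv : a⁻¹ * a⁻¹ = -1 := by
          rw [← _root_.mul_inv_rev, haa, inv_eq_iff_mul_eq_one, neg_mul_neg, one_mul]
        have hmul := mul_mem (hfour a ha a ha haa haa) (hfour b hb a⁻¹ (inv_mem ha) hbb hinv)
        rw [← map_mul, ← map_mul, Prod.mk_mul_mk, mul_inv_cancel] at hmul
        exact hmul
      exact fun a ha => hle ha
    have hright : ∀ b ∈ (P : Subgroup SL), pj (pair (1, b)) ∈ T := fun b hb =>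
      hmove _ swp _ (hleft b hb) (pair_mem_wreath (P : Subgroup SL).one_mem hb) (swp_conj_pair b 1)
    intro y hy
    obtain ⟨X, rfl⟩ := pj_surjective y
    obtain ⟨a, ha, b, hb, rfl | rfl⟩ := (hS X).1 hy
    all_goals
      have hab : pj (pair (a, b)) ∈ T := by
        have := mul_mem (hleft a ha) (hright b hb)
        rwa [← map_mul, ← map_mul, Prod.mk_mul_mk, mul_one, one_mul] at this
    · exact hab
    · rw [map_mul]; exact mul_mem hab hswT
  have hne : (S : Subgroup G4) ≠ ⊥ := fun e => hzne (by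
    have := (hS z).2 hzW
    rwa [e, Subgroup.mem_bot] at this)
  -- the automizer
  have haut : ∀ E : Cfsg.FusionSystem (S : Subgroup G4), E.IsSaturated 2 →
      E.IsInvariantIn (Cfsg.groupFusionSystem (S : Subgroup G4)) →
      Subgroup.normalizer ((S : Subgroup G4) : Set G4) ≤ autSub E (S : Subgroup G4) := by
    intro E hEs hinv
    set d₁ : Sp4 := pair (i, i) with hd₁
    set d₂ : Sp4 := pair (j, j) with hd₂
    set Rb : Subgroup G4 := Subgroup.closure {pj d₁, pj d₂, pj z, pj swp} with hRb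
    have hd₁R : pj d₁ ∈ Rb := Subgroup.subset_closure (by simp)
    have hd₂R : pj d₂ ∈ Rb := Subgroup.subset_closure (by simp)
    have hzR : pj z ∈ Rb := Subgroup.subset_closure (by simp)
    have hswR : pj swp ∈ Rb := Subgroup.subset_closure (by simp)
    have hRS : Rb ≤ (S : Subgroup G4) := by
      refine (Subgroup.closure_le _).2 ?_
      rintro x (rfl | rfl | rfl | rfl)
      · exact hSpair hiP hiP
      · exact hSpair hjP hjP
      · exact (hS _).2 hzW
      · exact hSswp
    have b₁ : bl d₁ = dia i.1 i.1 := bl_pair _ _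
    have b₂ : bl d₂ = dia j.1 j.1 := bl_pair _ _
    have bz : bl z = dia 1 (-1) := by rw [hz, bl_pair]; simp
    -- elements of `Rb` by their blocks
    have hmem : ∀ (X Y : Sp4), pj Y ∈ Rb → (bl X = bl Y ∨ bl X = -bl Y) → pj X ∈ Rb :=
      fun X Y hY he => (pj_eq_iff'.2 he : pj Y = pj X) ▸ hY
    have hnormal : ∀ (X : Sp4) (t₁ t₂ t₃ t₄ : Sp4), pj t₁ ∈ Rb → pj t₂ ∈ Rb → pj t₃ ∈ Rb →
        pj t₄ ∈ Rb →
        (bl X * bl d₁ = bl t₁ * bl X ∨ bl X * bl d₁ = -(bl t₁ * bl X)) →
        (bl X * bl d₂ = bl t₂ * bl X ∨ bl X * bl d₂ = -(bl t₂ * bl X)) →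
        (bl X * bl z = bl t₃ * bl X ∨ bl X * bl z = -(bl t₃ * bl X)) →
        (bl X * bl swp = bl t₄ * bl X ∨ bl X * bl swp = -(bl t₄ * bl X)) →
        pj X ∈ Subgroup.normalizer (Rb : Set G4) := by
      intro X t₁ t₂ t₃ t₄ m₁ m₂ m₃ m₄ e₁ e₂ e₃ e₄
      refine CfsgLib.Fusion.conj_le_of_subset fun y hy => ?_
      have hle : Rb ≤ Rb.comap (MulAut.conj (pj X)).toMonoidHom := by
        refine (Subgroup.closure_le _).2 ?_
        have key : ∀ d t : Sp4, pj t ∈ Rb →
            (bl X * bl d = bl t * bl X ∨ bl X * bl d = -(bl t * bl X)) →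
            pj X * pj d * (pj X)⁻¹ ∈ Rb := by
          intro d t ht he
          rw [← map_inv, ← map_mul, ← map_mul]
          refine hmem _ _ ht ?_
          rw [map_mul, map_mul]
          have hi : bl X * bl X⁻¹ = 1 := by rw [← map_mul, mul_inv_cancel, map_one]
          rcases he with he | he
          · left; rw [he, mul_assoc, hi, mul_one]
          · right; rw [he, neg_mul, mul_assoc, hi, mul_one]
        rintro x (rfl | rfl | rfl | rfl)
        · exact key _ _ m₁ e₁
        · exact key _ _ m₂ e₂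
        · exact key _ _ m₃ e₃
        · exact key _ _ m₄ e₄
      exact hle hy
    have a21 : bl d₂ * bl d₁ = -(bl d₁ * bl d₂) := by
      rw [b₁, b₂, dia_mul, dia_mul, neg_dia, R.ji, R.ij]
    have a12 : bl d₁ * bl d₂ = -(bl d₂ * bl d₁) := by rw [a21, neg_neg]
    have a43 : bl swp * bl z = -(bl z * bl (swp (F := F))) := by
      rw [bz, bl_swp, anti_mul_dia, dia_mul_anti, neg_anti]; simp
    have a34 : bl z * bl swp = -(bl (swp (F := F)) * bl z) := by rw [a43, neg_neg]
    have a13 : bl z * bl d₁ = bl d₁ * bl z := by rw [bz, b₁, dia_mul, dia_mul]; simp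
    have a23 : bl z * bl d₂ = bl d₂ * bl z := by rw [bz, b₂, dia_mul, dia_mul]; simp
    have a14 : bl swp * bl d₁ = bl d₁ * bl (swp (F := F)) := by
      rw [bl_swp, b₁, dia_mul_anti, anti_mul_dia]; simp
    have a24 : bl swp * bl d₂ = bl d₂ * bl (swp (F := F)) := by
      rw [bl_swp, b₂, dia_mul_anti, anti_mul_dia]; simp
    have hab : Rb ≤ Subgroup.centralizer (Rb : Set G4) := by
      rw [hRb, Subgroup.le_centralizer_iff, Subgroup.centralizer_closure, Subgroup.closure_le]
      intro x hx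
      rw [SetLike.mem_coe, Subgroup.mem_centralizer_iff]
      intro y hy
      simp only [Set.mem_insert_iff, Set.mem_singleton_iff] at hx hy
      rcases hx with rfl | rfl | rfl | rfl <;> rcases hy with rfl | rfl | rfl | rfl <;>
        first
        | rfl
        | (rw [← map_mul pj, ← map_mul pj, pj_eq_iff', map_mul, map_mul]
           first
           | exact Or.inl a13 | exact Or.inl a13.symm | exact Or.inl a23 | exact Or.inl a23.symm
           | exact Or.inl a14 | exact Or.inl a14.symm | exact Or.inl a24 | exact Or.inl a24.symm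
           | exact Or.inr a21 | exact Or.inr a12 | exact Or.inr a43 | exact Or.inr a34)
    -- self-centralizing
    have hRc : Subgroup.centralizer (Rb : Set G4) ≤ Rb := by
      have hcomm : ∀ X, pj X ∈ Subgroup.centralizer (Rb : Set G4) → ∀ Y, pj Y ∈ Rb →
          bl X * bl Y = bl Y * bl X ∨ bl X * bl Y = -(bl Y * bl X) := fun X hX Y hY => by
        have h1 := Subgroup.mem_centralizer_iff.1 hX _ hY
        rw [← map_mul pj, ← map_mul pj, pj_eq_iff', map_mul, map_mul] at h1
        exact h1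
      have step : ∀ (X r d : Sp4), pj X ∈ Subgroup.centralizer (Rb : Set G4) → pj r ∈ Rb →
          pj d ∈ Rb → bl r * bl d = -(bl d * bl r) →
          ∃ X', pj X' ∈ Subgroup.centralizer (Rb : Set G4) ∧ (pj X' ∈ Rb → pj X ∈ Rb) ∧
            bl X' * bl d = bl d * bl X' ∧ ∀ d', bl r * bl d' = bl d' * bl r →
              bl X * bl d' = bl d' * bl X → bl X' * bl d' = bl d' * bl X' := by
        intro X r d hX hr hd hrd
        rcases hcomm X hX d hd with e | e
        · exact ⟨X, hX, id, e, fun _ _ h => h⟩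
        · refine ⟨X * r, ?_, fun h => ?_, ?_, fun d' h h' => ?_⟩
          · rw [map_mul]; exact mul_mem hX (hab hr)
          · rw [map_mul] at h; exact (Subgroup.mul_mem_cancel_right _ hr).1 h
          · rw [map_mul, mul_assoc, hrd, mul_neg, ← mul_assoc, e, neg_mul, neg_neg, mul_assoc]
          · rw [map_mul, mul_assoc, h, ← mul_assoc, h', mul_assoc]
      intro g hg
      obtain ⟨X, rfl⟩ := pj_surjective g
      obtain ⟨X₁, m₁, i₁, c₁, -⟩ := step X d₂ d₁ hg hd₂R hd₁R a21
      obtain ⟨X₂, m₂, i₂, c₂, k₂⟩ := step X₁ d₁ d₂ m₁ hd₁R hd₂R a12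
      obtain ⟨X₃, m₃, i₃, c₃, k₃⟩ := step X₂ swp z m₂ hswR hzR a43
      obtain ⟨X₄, m₄, i₄, c₄, k₄⟩ := step X₃ z swp m₃ hzR hswR a34
      have e₁ := k₄ d₁ a13 (k₃ d₁ a14 (k₂ d₁ rfl c₁))
      have e₂ := k₄ d₂ a23 (k₃ d₂ a24 c₂)
      have e₃ := k₄ z rfl c₃
      refine i₁ (i₂ (i₃ (i₄ ?_)))
      obtain ⟨a, b, rfl⟩ := exists_pair_of_commute h2 (X := X₄) (by rw [← bz]; exact e₃)
      rw [bl_swp, bl_pair, dia_mul_anti, anti_mul_dia, mul_one, one_mul, mul_one, one_mul] at c₄
      rw [b₁, bl_pair, dia_mul, dia_mul] at e₁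
      rw [b₂, bl_pair, dia_mul, dia_mul] at e₂
      obtain rfl : a = b := Subtype.ext (anti_inj c₄).1
      rcases hpm (dia_inj e₁).1 (dia_inj e₂).1 with rfl | rfl
      · rw [Prod.mk_one_one, map_one, map_one]; exact one_mem _
      · rw [show pair ((-1 : SL), (-1 : SL)) = negI from rfl, pj_negI]; exact one_mem _
    -- the mixing element normalizes
    obtain ⟨g, hgb, hgi⟩ := exists_mix h2 hii hjj hji
    have hkey : ∀ (X : Sp4) (G : M22) (d t : Sp4), bl X = (2 : F)⁻¹ • G →
        (G * bl d = bl t * G ∨ G * bl d = -(bl t * G)) →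
        (bl X * bl d = bl t * bl X ∨ bl X * bl d = -(bl t * bl X)) := by
      intro X G d t hX he
      rw [hX, Matrix.smul_mul, Matrix.mul_smul, ← smul_neg]
      rcases he with he | he
      · exact Or.inl (congrArg _ he)
      · exact Or.inr (congrArg _ he)
    have hgN : pj g ∈ Subgroup.normalizer (Rb : Set G4) := by
      obtain ⟨g1, g2, g3, g4⟩ := R.g_moves
      refine hnormal g (d₁ * d₂) (d₁ * swp) (d₁ * d₂ * z * swp) swp ?_ ?_ ?_ hswR
        (hkey _ _ _ _ hgb ?_) (hkey _ _ _ _ hgb ?_) (hkey _ _ _ _ hgb ?_) (hkey _ _ _ _ hgb ?_)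
      · rw [map_mul]; exact mul_mem hd₁R hd₂R
      · rw [map_mul]; exact mul_mem hd₁R hswR
      · rw [map_mul, map_mul, map_mul]; exact mul_mem (mul_mem (mul_mem hd₁R hd₂R) hzR) hswR
      · right
        rw [map_mul, b₁, b₂, dia_mul, g1,
          show dia (-(i.1 * j.1)) (-(i.1 * j.1)) = -dia (i.1 * j.1) (i.1 * j.1) from (neg_dia _ _).symm,
          neg_mul]
      · left; rw [map_mul, b₁, b₂, bl_swp, dia_mul_anti, g2, mul_one]
      · left
        rw [map_mul, map_mul, map_mul, b₁, b₂, bz, bl_swp, dia_mul, dia_mul, dia_mul_anti, R.ij, g3]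
        simp
      · left; rw [bl_swp, g4]
    have hone : (1 : SL) ∈ (P : Subgroup SL) := one_mem _
    have hsiN : pj (pair (i, 1)) ∈ Subgroup.normalizer (Rb : Set G4) := by
      refine hnormal _ d₁ (d₂ * z) z (d₁ * z * swp) hd₁R ?_ hzR ?_ (Or.inl ?_) ?_ (Or.inl ?_) ?_
      · rw [map_mul]; exact mul_mem hd₂R hzR
      · rw [map_mul, map_mul]; exact mul_mem (mul_mem hd₁R hzR) hswR
      · rw [b₁, bl_pair, dia_mul, dia_mul]; simp
      · right
        rw [map_mul, b₂, bz, bl_pair, dia_mul, dia_mul, dia_mul, neg_dia, R.ij]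
        simp [R.ji]
      · rw [bz, bl_pair, dia_mul, dia_mul]; simp
      · left
        rw [map_mul, map_mul, b₁, bz, bl_swp, bl_pair, dia_mul, dia_mul_anti, dia_mul_anti, anti_mul_dia]
        simp [R.ii]
    have hskN : pj (pair (i * j, 1)) ∈ Subgroup.normalizer (Rb : Set G4) := by
      refine hnormal _ (d₁ * z) (d₂ * z) z (d₁ * d₂ * z * swp) ?_ ?_ hzR ?_ ?_ ?_ (Or.inl ?_) ?_
      · rw [map_mul]; exact mul_mem hd₁R hzR
      · rw [map_mul]; exact mul_mem hd₂R hzR
      · rw [map_mul, map_mul, map_mul]; exact mul_mem (mul_mem (mul_mem hd₁R hd₂R) hzR) hswR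
      · right
        rw [map_mul, b₁, bz, bl_pair, dia_mul, dia_mul, dia_mul, neg_dia, val_mul, R.ij]
        simp [R.ki, R.ik]
      · right
        rw [map_mul, b₂, bz, bl_pair, dia_mul, dia_mul, dia_mul, neg_dia, val_mul, R.ij]
        simp [R.jk, R.kj]
      · rw [bz, bl_pair, dia_mul, dia_mul]; simp
      · left
        rw [map_mul, map_mul, map_mul, b₁, b₂, bz, bl_swp, bl_pair, dia_mul, dia_mul, dia_mul_anti,
          dia_mul_anti, anti_mul_dia, val_mul, R.ij]
        simp [R.kk]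
    -- the rotation
    have hrot : pj (pair (h, h)) ∈ autSub E Rb := by
      have hA : pj g * pj (pair (i, 1)) * (pj g)⁻¹ ∈ autSub E Rb :=
        conj_mem_autSub hinv hRS hgN (autSub_of_mem hRS (hSpair hiP hone) hsiN)
      have hB : (pj g)⁻¹ * pj (pair (i * j, 1)) * (pj g)⁻¹⁻¹ ∈ autSub E Rb :=
        conj_mem_autSub hinv hRS (inv_mem hgN) (autSub_of_mem hRS (hSpair hkP hone) hskN)
      set c : Sp4 := pair (-(i * j), i * j) * swp with hc
      have hcR : pj c ∈ Rb := by
        refine hmem c (d₁ * d₂ * z * swp) ?_ (Or.inr ?_)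
        · rw [map_mul, map_mul, map_mul]; exact mul_mem (mul_mem (mul_mem hd₁R hd₂R) hzR) hswR
        · rw [hc, bl_pair_swp, map_mul, map_mul, map_mul, b₁, b₂, bz, bl_swp, dia_mul, dia_mul,
            dia_mul_anti, neg_anti, R.ij, Matrix.SpecialLinearGroup.coe_neg, val_mul, R.ij]
          simp
      have hprod : g * pair (i, 1) * g⁻¹ * (g⁻¹ * pair (i * j, 1) * g) = pair (h, h) * c := by
        apply eq_of_bl
        simp only [map_mul, hgb, hgi, bl_pair, val_one, hc, bl_swp, val_mul]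
        simp only [Matrix.smul_mul, Matrix.mul_smul, smul_smul, R.rot_eq]
        rw [hhval, show (2 : F)⁻¹ * 2⁻¹ * (2⁻¹ * 2⁻¹ * 8) = 2⁻¹ by field_simp; norm_num]
        rw [dia_mul_anti, dia_mul_anti, dia_mul_anti, Matrix.SpecialLinearGroup.coe_neg, val_mul]
        ext x y : 2
        fin_cases x <;> fin_cases y <;> simp [Matrix.smul_mul, add_mul, mul_add]
      have h5 := mul_mem (mul_mem hA hB) (inv_mem (autSub_of_mem (E := E) hRS (hRS hcR)
        (Subgroup.le_normalizer hcR)))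
      rw [inv_inv, ← map_inv, ← map_inv, ← map_mul, ← map_mul, ← map_mul, ← map_mul, ← map_mul,
        ← map_mul, hprod, mul_inv_cancel_right] at h5
      exact h5
    have hrotS : h ∈ Subgroup.normalizer ((P : Subgroup SL) : Set SL) →
        pj (pair (h, h)) ∈ autSub E (S : Subgroup G4) := by
      intro hh
      refine autSub_of_centric S.2 (CfsgLib.Fusion.isSaturated_group S) hinv.1 hEs hRc hRS le_rfl ?_ hrot
      refine CfsgLib.Fusion.conj_le_of_subset fun y hy => ?_
      obtain ⟨Y, rfl⟩ := pj_surjective y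
      rw [← map_inv, ← map_mul, ← map_mul]
      refine (hS _).2 ?_
      obtain ⟨a, ha, b, hb, rfl | rfl⟩ := (hS Y).1 hy
      · rw [← map_inv, ← map_mul, ← map_mul]
        exact pair_mem_wreath ((Subgroup.mem_normalizer_iff.1 hh a).1 ha)
          ((Subgroup.mem_normalizer_iff.1 hh b).1 hb)
      · refine ⟨_, (Subgroup.mem_normalizer_iff.1 hh a).1 ha, _, (Subgroup.mem_normalizer_iff.1 hh b).1 hb,
          Or.inr ?_⟩
        rw [← map_inv, mul_assoc, mul_assoc, swp_mul_pair, ← mul_assoc, ← mul_assoc, ← map_mul, ← map_mul]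
        simp
    intro y hy
    obtain ⟨X, rfl⟩ := pj_surjective y
    have hXW : ∀ Y ∈ wreath (P : Subgroup SL), X * Y * X⁻¹ ∈ wreath (P : Subgroup SL) := fun Y hY => by
      refine (hS _).1 ?_
      rw [map_mul, map_mul, map_inv]
      exact (Subgroup.mem_normalizer_iff.1 hy _).1 ((hS Y).2 hY)
    have hXz : pj (X * z * X⁻¹) = pj z := by
      refine (hcent _ (hXW z hzW) fun w hw => ?_).resolve_left fun e => hzne ?_
      · have hw' := (Subgroup.mem_normalizer_iff.1 (inv_mem hy) w).1 hw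
        rw [inv_inv] at hw'
        obtain ⟨W, hWe⟩ := pj_surjective ((pj X)⁻¹ * w * pj X)
        have := hzc W ((hS W).1 (by rw [hWe]; exact hw'))
        rw [hWe] at this
        rw [map_mul, map_mul, map_inv]
        calc pj X * pj z * (pj X)⁻¹ * w
            = pj X * (pj z * ((pj X)⁻¹ * w * pj X)) * (pj X)⁻¹ := by group
          _ = w * (pj X * pj z * (pj X)⁻¹) := by rw [this]; group
      · rw [map_mul, map_mul, map_inv, mul_inv_eq_one, mul_eq_left] at e
        exact e
    obtain ⟨X', a, b, hX', hXX⟩ : ∃ (X' : Sp4) (a b : SL), X' = pair (a, b) ∧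
        (X' = X ∨ X' = X * swp) := by
      rw [map_mul, map_mul, map_inv, mul_inv_eq_iff_eq_mul, ← map_mul pj, ← map_mul pj, pj_eq_iff', map_mul,
        map_mul, bz] at hXz
      rcases hXz with e | e
      · obtain ⟨a, b, hab⟩ := exists_pair_of_commute h2 (X := X) e.symm
        exact ⟨X, a, b, hab, Or.inl rfl⟩
      · obtain ⟨a, b, hab⟩ := exists_pair_of_commute h2 (X := X * swp) (by
          have hsz : bl (swp (F := F)) * dia 1 (-1) = -(dia 1 (-1) * bl swp) := by rw [← bz]; exact a43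
          rw [map_mul, mul_assoc, hsz, mul_neg, ← mul_assoc, ← neg_mul, ← e, mul_assoc])
        exact ⟨X * swp, a, b, hab, Or.inr rfl⟩
    have hXS : pj X' ∈ Subgroup.normalizer ((S : Subgroup G4) : Set G4) := by
      rcases hXX with e | e
      · rw [e]; exact hy
      · rw [e, map_mul]; exact mul_mem hy (Subgroup.le_normalizer hSswp)
    suffices hgoal : pj X' ∈ autSub E (S : Subgroup G4) by
      rcases hXX with e | e
      · rwa [e] at hgoal
      · rw [e, map_mul] at hgoal
        exact (Subgroup.mul_mem_cancel_right _ (autSub_of_mem le_rfl hSswp (Subgroup.le_normalizer hSswp))).1 hgoal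
    subst hX'
    have hconj : ∀ Y ∈ wreath (P : Subgroup SL), pair (a, b) * Y * (pair (a, b))⁻¹ ∈ wreath (P : Subgroup SL) :=
      fun Y hY => by
        refine (hS _).1 ?_
        rw [map_mul, map_mul, map_inv]
        exact (Subgroup.mem_normalizer_iff.1 hXS _).1 ((hS Y).2 hY)
    have hpairW : ∀ u v : SL, pair (u, v) ∈ wreath (P : Subgroup SL) → u ∈ (P : Subgroup SL) := by
      rintro u v ⟨c, hc, d, hd, e | e⟩
      · have e' : u = c := (Prod.ext_iff.1 (pair_injective e)).1
        exact e' ▸ hc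
      · have e' := congrArg bl e
        rw [bl_pair, bl_pair_swp] at e'
        exact absurd e' (dia_ne_anti (val_ne_zero _))
    have haN : a ∈ Subgroup.normalizer ((P : Subgroup SL) : Set SL) := by
      refine CfsgLib.Fusion.conj_le_of_subset fun u hu => hpairW _ (b * 1 * b⁻¹) ?_
      have := hconj _ (pair_mem_wreath hu (one_mem (P : Subgroup SL)))
      rwa [← map_inv, ← map_mul, ← map_mul] at this
    have hba : b * a⁻¹ ∈ (P : Subgroup SL) := by
      have h1 := hconj _ (swp_mem_wreath _)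
      rw [← map_inv, mul_assoc, swp_mul_pair, ← mul_assoc, ← map_mul, Prod.inv_mk, Prod.mk_mul_mk] at h1
      have h2' := mul_mem h1 (swp_mem_wreath (P : Subgroup SL))
      rw [mul_assoc, swp_sq, mul_one] at h2'
      have h3 := inv_mem (hpairW _ _ h2')
      simpa using h3
    obtain ⟨x, hxP, e, hae, hor⟩ := hnorm a haN
    have hmain : pj (pair (h ^ e, h ^ e)) ∈ autSub E (S : Subgroup G4) := by
      rcases hor with rfl | hh
      · rw [pow_zero, Prod.mk_one_one, map_one, map_one]; exact one_mem _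
      · rw [show ((h ^ e, h ^ e) : SL × SL) = (h, h) ^ e from rfl, map_pow, map_pow]
        exact pow_mem (hrotS hh) e
    have hleftS : pj (pair (x, b * a⁻¹ * x)) ∈ (S : Subgroup G4) := hSpair hxP (mul_mem hba hxP)
    have hfin := mul_mem (autSub_of_mem (E := E) le_rfl hleftS (Subgroup.le_normalizer hleftS)) hmain
    rw [← map_mul, ← map_mul, Prod.mk_mul_mk, ← hae, mul_assoc (b * a⁻¹), ← hae, inv_mul_cancel_right] at hfin
    exact hfin
  exact CfsgLib.Fusion.isSimple_group_of_closed_automizer S hne hclosed haut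

end CfsgLib.SpFour
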